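import Cfsg.Agent.ClassicalMax.SpTensor.Main
import Cfsg.Agent.ClassicalMax.Symplectic
import Cfsg.Agent.ClassicalMax.SpTwo.Bridge

/-!
The stabiliser of a decomposition `Sp ⊗ O` of the symplectic space is maximal.
-/

set_option autoImplicit false
set_option linter.unusedSectionVars false
set_option linter.style.haveILetI false

namespace Cfsg.Agent.ClassicalMax.SpTensor

open Module QuadraticMap Cfsg.Agent.Classical Cfsg.Agent.ClassicalMax
open Cfsg.Agent.ClassicalMax.SpTwo (pS pS_apply pS_symm pS_self q_add q_smul)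
open scoped Kronecker

variable {ι : Type} [Fintype ι] [DecidableEq ι] {F : Type*} [Field F] {n₁ n₂ : ℕ}

/-- a pair of maps of the factors is realised in the stabiliser -/
theorem exists_tensor (e : ι ≃ Fin n₁ × Fin n₂) (P : GL ι F) (a : (Fin n₁ → F) ≃ₗ[F] (Fin n₁ → F))
    (b : (Fin n₂ → F) ≃ₗ[F] (Fin n₂ → F)) :
    ∃ G ∈ Cfsg.Geo.tensorProductSubgroup n₁ n₂ e P, ∀ x y,
      (G : Matrix ι ι F).mulVec (NotMax.pureT e P x y) = NotMax.pureT e P (a x) (b y) := by
  classical
  set A := (glEquiv (Fin n₁) F).symm a with hA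
  set B := (glEquiv (Fin n₂) F).symm b with hB
  let k : GL (Fin n₁ × Fin n₂) F :=
    ⟨(A : Matrix (Fin n₁) (Fin n₁) F) ⊗ₖ (B : Matrix (Fin n₂) (Fin n₂) F),
      ((A⁻¹ : GL (Fin n₁) F) : Matrix (Fin n₁) (Fin n₁) F) ⊗ₖ ((B⁻¹ : GL (Fin n₂) F) : Matrix (Fin n₂) (Fin n₂) F), by
      rw [← Matrix.mul_kronecker_mul, ← Units.val_mul, ← Units.val_mul, mul_inv_cancel, mul_inv_cancel, Units.val_one,
        Units.val_one, Matrix.one_kronecker_one], by
      rw [← Matrix.mul_kronecker_mul, ← Units.val_mul, ← Units.val_mul, inv_mul_cancel, inv_mul_cancel, Units.val_one,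
        Units.val_one, Matrix.one_kronecker_one]⟩
  refine ⟨_, Subgroup.mem_map_of_mem _ (Subgroup.mem_map_of_mem _ (show k ∈ Cfsg.Geo.kroneckerSubgroup n₁ n₂ F
    from ⟨A, B, rfl⟩)), fun x y => ?_⟩
  rw [NotMax.pureT_apply, NotMax.pureT_apply]
  have hR : ((Cfsg.Geo.glReindex e.symm k : GL ι F) : Matrix ι ι F) =
      (k : Matrix (Fin n₁ × Fin n₂) (Fin n₁ × Fin n₂) F).submatrix e e := rfl
  rw [MulEquiv.coe_toMonoidHom, MulAut.conj_apply, Units.val_mul, Units.val_mul,
    Matrix.mulVec_mulVec, Matrix.mul_assoc, ← Units.val_mul P⁻¹ P, inv_mul_cancel, Units.val_one, Matrix.mul_one,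
    ← Matrix.mulVec_mulVec, MulEquiv.coe_toMonoidHom, hR]
  congr 1
  rw [Matrix.submatrix_mulVec_equiv, Function.comp_assoc, e.self_comp_symm, Function.comp_id]
  congr 1
  funext p
  have hax : a x = (A : Matrix (Fin n₁) (Fin n₁) F).mulVec x := (symm_mulVec a x).symm
  have hby : b y = (B : Matrix (Fin n₂) (Fin n₂) F).mulVec y := (symm_mulVec b y).symm
  rw [hax, hby, show (k : Matrix (Fin n₁ × Fin n₂) (Fin n₁ × Fin n₂) F) =
    (A : Matrix (Fin n₁) (Fin n₁) F) ⊗ₖ (B : Matrix (Fin n₂) (Fin n₂) F) from rfl]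
  simp only [Matrix.mulVec, dotProduct, Matrix.kroneckerMap_apply, Fintype.sum_prod_type, Finset.sum_mul_sum]
  exact Finset.sum_congr rfl fun i _ => Finset.sum_congr rfl fun j _ => by ring

/-- the standard vectors are pure -/
theorem pureT_single (e : ι ≃ Fin n₁ × Fin n₂) (P : GL ι F) (i : ι) :
    NotMax.pureT e P (Pi.single (e i).1 1) (Pi.single (e i).2 1) = (P : Matrix ι ι F).mulVec (Pi.single i 1) := by
  classical
  rw [NotMax.pureT_apply]
  congr 1
  funext j
  by_cases h : j = i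
  · subst h; simp
  · simp only [Function.comp_apply, Pi.single_eq_of_ne h]
    by_cases h1 : (e j).1 = (e i).1
    · have h2 : (e j).2 ≠ (e i).2 := fun h2 => h (e.injective (Prod.ext h1 h2))
      rw [Pi.single_eq_of_ne h2, mul_zero]
    · rw [Pi.single_eq_of_ne h1, zero_mul]

variable [Fintype F] {m : ℕ}

/-- the stabiliser of a decomposition `Sp ⊗ O` with first factor of dimension at least four is maximal -/
theorem isMaximal_tensor (h4 : 4 ≤ n₁) (h3 : 3 ≤ n₂) (hex : n₂ = 3 → 5 ≤ Fintype.card F)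
    (hodd : Odd (Fintype.card F)) (e : (Fin m ⊕ Fin m) ≃ Fin n₁ × Fin n₂) (P : GL (Fin m ⊕ Fin m) F)
    (f₁ : (Fin n₁ → F) → (Fin n₁ → F) → F) (f₂ : (Fin n₂ → F) → (Fin n₂ → F) → F)
    (hf₁ : Cfsg.Geo.IsSymplecticForm f₁) (hf₂ : Cfsg.Geo.IsSymmetricForm f₂)
    (hT : Cfsg.Geo.IsTensorFormStructure id (Cfsg.sympForm m F) f₁ f₂ e P) :
    Cfsg.Geo.IsMaximalIn (Cfsg.spGL m F) (Cfsg.Geo.tensorProductSubgroup n₁ n₂ e P ⊓ Cfsg.spGL m F) := by
  classical
  have h2 : (2 : F) ≠ 0 := Ring.two_ne_zero fun h => by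
    have h' := FiniteField.even_card_of_char_two h
    obtain ⟨r, hr⟩ := hodd
    omega
  obtain ⟨c, hc, hform⟩ := NotMax.form_pureT id (fun _ _ => rfl) hT
    (NotMax.formOfGram_bilinear id hf₁.bilinear.add_left hf₁.bilinear.smul_left hf₁.bilinear.add_right
      fun c v x => hf₁.bilinear.smul_right c v x)
    (NotMax.formOfGram_bilinear id hf₂.bilinear.add_left hf₂.bilinear.smul_left hf₂.bilinear.add_right
      fun c v x => hf₂.bilinear.smul_right c v x)
  let A : LinearMap.BilinForm F (Fin n₁ → F) := c • LinearMap.mk₂ F f₁ hf₁.bilinear.add_left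
    (fun c x y => hf₁.bilinear.smul_left c x y) hf₁.bilinear.add_right (fun c x y => hf₁.bilinear.smul_right c x y)
  let bS : LinearMap.BilinForm F (Fin n₂ → F) := LinearMap.mk₂ F f₂ hf₂.bilinear.add_left
    (fun c x y => hf₂.bilinear.smul_left c x y) hf₂.bilinear.add_right (fun c x y => hf₂.bilinear.smul_right c x y)
  set Q : QuadraticForm F (Fin n₂ → F) := ((2 : F)⁻¹ • bS).toQuadraticMap with hQ
  have hpol : ∀ x y, pS Q x y = f₂ x y := fun x y => by
    rw [pS_apply, hQ, polar, LinearMap.BilinMap.toQuadraticMap_apply, LinearMap.BilinMap.toQuadraticMap_apply,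
      LinearMap.BilinMap.toQuadraticMap_apply]
    have h21 : (2 : F)⁻¹ * 2 = 1 := inv_mul_cancel₀ h2
    simp only [map_add, LinearMap.add_apply, LinearMap.smul_apply, smul_eq_mul]
    show 2⁻¹ * f₂ x x + 2⁻¹ * f₂ y x + (2⁻¹ * f₂ x y + 2⁻¹ * f₂ y y) - 2⁻¹ * f₂ x x - 2⁻¹ * f₂ y y = f₂ x y
    rw [hf₂.symm y x]
    linear_combination f₂ x y * h21
  have hA : ∀ x y, A x y = c * f₁ x y := fun x y => rfl
  have hAnd : A.Nondegenerate := by
    constructor
    · intro v hv
      by_contra hne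
      obtain ⟨x, hx⟩ := (hf₁.nondegenerate v hne).2
      exact hx ((mul_eq_zero.1 ((hA v x).symm.trans (hv x))).resolve_left hc)
    · intro v hv
      by_contra hne
      obtain ⟨x, hx⟩ := (hf₁.nondegenerate v hne).1
      exact hx ((mul_eq_zero.1 ((hA x v).symm.trans (hv x))).resolve_left hc)
  have hQnd : (polarBilin Q).Nondegenerate := by
    constructor
    · intro v hv
      by_contra hne
      obtain ⟨x, hx⟩ := (hf₂.nondegenerate v hne).2
      exact hx ((hpol v x).symm.trans (hv x))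
    · intro v hv
      by_contra hne
      obtain ⟨x, hx⟩ := (hf₂.nondegenerate v hne).1
      exact hx ((hpol x v).symm.trans (hv x))
  have hB := sympB_isAlt (F := F) (m := m)
  set pt := NotMax.pureT e P with hpt
  have hprod : ∀ u y u' y', sympB m F (pt u y) (pt u' y') = A u u' * pS Q y y' := fun u y u' y' => by
    rw [hA, hpol, sympB_apply, hform, mul_assoc]
  have hF : Frame (sympB m F) A Q pt := by
    refine ⟨h2, hB, sympB_nondeg, fun x => by rw [hA, hf₁.alternating, mul_zero], hAnd, hQnd, ?_, ?_, ?_, hprod, ?_, ?_⟩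
    · rw [Module.finrank_fintype_fun_eq_card, Fintype.card_fin]; exact h4
    · rw [Module.finrank_fintype_fun_eq_card, Fintype.card_fin]; exact h3
    · rw [Module.finrank_fintype_fun_eq_card, Fintype.card_fin, Nat.card_eq_fintype_card]; exact hex
    · intro z hz
      refine sympB_nondeg.1 z fun w => ?_
      obtain ⟨w, rfl⟩ : ∃ w', (P : Matrix (Fin m ⊕ Fin m) (Fin m ⊕ Fin m) F).mulVec w' = w :=
        ⟨((P⁻¹ : GL (Fin m ⊕ Fin m) F) : Matrix (Fin m ⊕ Fin m) (Fin m ⊕ Fin m) F).mulVec w, by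
          rw [Matrix.mulVec_mulVec, ← Units.val_mul, mul_inv_cancel, Units.val_one, Matrix.one_mulVec]⟩
      rw [show w = ∑ i, w i • (Pi.single i (1 : F) : Fin m ⊕ Fin m → F) from pi_eq_sum_univ' w, Matrix.mulVec_sum,
        map_sum]
      refine Finset.sum_eq_zero fun i _ => ?_
      rw [Matrix.mulVec_smul, map_smul, ← pureT_single e P i, hz, smul_zero]
    · intro a b
      obtain ⟨G, -, hG⟩ := exists_tensor e P a b
      refine ⟨glEquiv (Fin m ⊕ Fin m) F G, fun x y => ?_⟩
      rw [← symm_mulVec, MulEquiv.symm_apply_apply]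
      exact hG x y
  -- elements preserving the decomposition are in the stabiliser
  have hmem : ∀ g, InN pt g → (glEquiv (Fin m ⊕ Fin m) F).symm g ∈ Cfsg.Geo.tensorProductSubgroup n₁ n₂ e P := by
    intro g hg
    obtain ⟨a, b, hg⟩ := hg
    haveI := hF.nontrivialU
    haveI := hF.nontrivialW
    have ha : Function.Injective a := (injective_iff_map_eq_zero a).2 fun x hx => by
      by_contra hx0
      obtain ⟨y, hy⟩ := exists_ne (0 : Fin n₂ → F)
      refine hy (hF.pt_injective hx0 (g.injective ?_))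
      rw [hg, hx, map_zero pt, LinearMap.zero_apply, map_zero (pt x), map_zero g]
    have hb : Function.Injective b := (injective_iff_map_eq_zero b).2 fun y hy => by
      obtain ⟨x, hx⟩ := exists_ne (0 : Fin n₁ → F)
      refine hF.pt_injective hx (g.injective ?_)
      rw [hg, hy, map_zero (pt (a x)), map_zero (pt x), map_zero g]
    obtain ⟨G, hGK, hG⟩ := exists_tensor e P (LinearEquiv.ofInjectiveEndo a ha) (LinearEquiv.ofInjectiveEndo b hb)
    suffices g = glEquiv (Fin m ⊕ Fin m) F G by rwa [this, MulEquiv.symm_apply_apply]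
    refine LinearEquiv.toLinearMap_injective (hF.ext_pure fun x y => ?_)
    show g (pt x y) = glEquiv (Fin m ⊕ Fin m) F G (pt x y)
    rw [← symm_mulVec (glEquiv (Fin m ⊕ Fin m) F G), MulEquiv.symm_apply_apply, hG, hg]
    rfl
  refine isMaximalIn_spGL _ ?_ fun M hM hg => ?_
  · -- a transvection with pure centre is outside
    haveI := hF.nontrivialU
    obtain ⟨x, hx⟩ := exists_ne (0 : Fin n₁ → F)
    obtain ⟨y, hy⟩ := hF.exists_aniso
    have hy0 : y ≠ 0 := fun h => hy (by rw [h, QuadraticMap.map_zero])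
    obtain ⟨x', hx'⟩ := hF.exists_partner hx
    refine ⟨pt x y, 1, fun hm => ?_⟩
    obtain ⟨a, b, hab⟩ := NotMax.exists_pair e P hm
    have hN : InN pt (Alt.tv hB (pt x y) 1) :=
      ⟨Matrix.mulVecLin a.val, Matrix.mulVecLin b.val, fun u w => by
        rw [← symm_mulVec, Matrix.mulVecLin_apply, Matrix.mulVecLin_apply]; exact hab u w⟩
    obtain ⟨z, hz, hz0⟩ : ∃ z ∈ LinearMap.ker (pS Q y), z ≠ 0 := by
      refine Submodule.exists_mem_ne_zero_of_ne_bot fun h0 => ?_
      have e1 := SpTwo.Over.finrank_inf_ker (⊤ : Submodule F (Fin n₂ → F)) (pS Q y)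
      rw [top_inf_eq, h0, finrank_bot, finrank_top, Module.finrank_fintype_fun_eq_card, Fintype.card_fin] at e1
      omega
    have hzy : pS Q z y = 0 := (pS_symm _ _).trans hz
    obtain ⟨p, hp⟩ := hF.inN_meet hN hz0 (show x' ≠ 0 from fun h => by
      rw [h, map_zero] at hx'; exact zero_ne_one hx') (v := x') ⟨z, by
        rw [Alt.tv_apply, hprod, hzy, mul_zero, mul_zero, zero_smul, add_zero]⟩ y
    have h1 := congrArg (hF.ev x') hp
    rw [Alt.tv_apply, map_add, map_smul, hF.ev_pt, hF.ev_pt, hF.ev_pt, hF.A_self, hprod, hF.A_swap x x', hx', zero_smul,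
      zero_smul, zero_add, smul_smul, mul_one, pS_self, one_mul, eq_comm, smul_eq_zero] at h1
    exact h1.elim (mul_ne_zero (neg_ne_zero.2 one_ne_zero) (mul_ne_zero h2 hy)) hy0
  · obtain ⟨g, hgM, hgi, hgK⟩ := hg
    set X := M ⊓ Alt.isoGroup (sympB m F) with hX
    have hO : Over (sympB m F) pt X := ⟨fun g hg => hg.2, fun g hgi hgN => ⟨hM g hgi (hmem g hgN), hgi⟩⟩
    have hDone : Done hF X := by
      by_contra hD
      exact hgK (hmem g (hO.inN hF hD ⟨hgM, hgi⟩))
    exact fun v c => (hDone v c).1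

end Cfsg.Agent.ClassicalMax.SpTensor
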