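import Cfsg.Agent.ClassicalMax.SpTensor.Basic

/-!
Overgroups of the stabiliser of a decomposition `Sp ⊗ O`: one non-scalar element supported on `u ⊗ W` gives every
transvection.
-/

set_option autoImplicit false
set_option linter.unusedSectionVars false
set_option linter.style.haveILetI false

namespace Cfsg.Agent.ClassicalMax.SpTensor

open Module QuadraticMap Cfsg.Agent.Classical Cfsg.Agent.ClassicalMax
open Cfsg.Agent.ClassicalMax.SpTwo (pS pS_apply pS_symm pS_self q_add q_smul)

variable {F U W V : Type*} [Field F] [Finite F] [AddCommGroup U] [Module F U] [AddCommGroup W] [Module F W]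
  [AddCommGroup V] [Module F V] [FiniteDimensional F U] [FiniteDimensional F W] [FiniteDimensional F V]
  {B : LinearMap.BilinForm F V} {A : LinearMap.BilinForm F U} {Q : QuadraticForm F W} {pt : U →ₗ[F] W →ₗ[F] V}
  {X : Subgroup (V ≃ₗ[F] V)}

/-- the symmetric product of two vectors -/
noncomputable def symP (Q : QuadraticForm F W) (a d : W) : W →ₗ[F] W :=
  (pS Q a).smulRight d + (pS Q d).smulRight a

theorem symP_apply (a d x : W) : symP Q a d x = pS Q a x • d + pS Q d x • a := rfl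

/-- a value of a field of at least five elements away from zero and plus and minus one -/
theorem exists_scale (hq : 5 ≤ Nat.card F) : ∃ l : F, l ≠ 0 ∧ l ≠ 1 ∧ l ≠ -1 := by
  classical
  letI := Fintype.ofFinite F
  by_contra! h
  have hsub : (Finset.univ : Finset F) ⊆ {0, 1, -1} := fun l _ => by
    simp only [Finset.mem_insert, Finset.mem_singleton]
    by_cases h0 : l = 0
    · exact Or.inl h0
    by_cases h1 : l = 1
    · exact Or.inr (Or.inl h1)
    exact Or.inr (Or.inr (h l h0 h1))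
  have := Finset.card_le_card hsub
  have h3 : ({0, 1, -1} : Finset F).card ≤ 3 := Finset.card_le_three
  rw [Finset.card_univ, ← Nat.card_eq_fintype_card] at this
  omega

theorem two_squares (h2 : (2 : F) ≠ 0) (c : F) : ∃ x y : F, c = x ^ 2 + y ^ 2 := by
  classical
  letI := Fintype.ofFinite F
  rcases eq_or_ne c 0 with rfl | hc
  · exact ⟨0, 0, by ring⟩
  obtain ⟨x, y, h⟩ := Quad.exists_binary_one h2 (div_ne_zero one_ne_zero hc) (div_ne_zero one_ne_zero hc)
  field_simp at h
  exact ⟨x, y, h.symm⟩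

namespace Over

variable (hO : Over B pt X) (hF : Frame B A Q pt)
include hO hF

theorem rad_neg {u : U} {S : W →ₗ[F] W} (h : hF.rad u S ∈ X) : hF.rad u (-S) ∈ X :=
  hF.rad_inv u S ▸ inv_mem h

theorem rad_adj {u : U} (hu : u ≠ 0) {S : W →ₗ[F] W} (h : hF.rad u S ∈ X) (e e' : W) :
    pS Q (S e) e' = pS Q e (S e') := by
  obtain ⟨u', hu'⟩ := hF.exists_partner hu
  have hu'' : A u' u = -1 := by rw [hF.A_swap u u', hu']
  have := hO.iso _ h (pt u' e) (pt u' e')
  simp only [hF.rad_apply, hF.ev_pt, map_add, LinearMap.add_apply, hF.prod, hF.A_self, zero_mul,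
    map_smul, LinearMap.smul_apply, smul_eq_mul, hu', hu''] at this
  linear_combination -this

theorem rad_conj {u : U} {S : W →ₗ[F] W} (h : hF.rad u S ∈ X) {k : W ≃ₗ[F] W} (hk : k ∈ Quad.oG Q) :
    hF.rad u (k.toLinearMap ∘ₗ S ∘ₗ k.symm.toLinearMap) ∈ X := by
  obtain ⟨g, hg, -, hgp, hev⟩ := hO.exists_lift hF (a := 1) (one_mem _) hk
  suffices hF.rad u (k.toLinearMap ∘ₗ S ∘ₗ k.symm.toLinearMap) = g * hF.rad u S * g⁻¹ by
    rw [this]; exact mul_mem (mul_mem hg h) (inv_mem hg)
  refine LinearEquiv.ext fun z => ?_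
  obtain ⟨z, rfl⟩ := g.surjective z
  rw [LinearEquiv.mul_apply, LinearEquiv.mul_apply, Alt.inv_apply_self, hF.rad_apply, hF.rad_apply, map_add, hgp,
    show hF.ev u (g z) = k (hF.ev u z) from hev u z]
  simp

theorem rad_sq {u : U} (hu : u ≠ 0) {S : W →ₗ[F] W} (h : hF.rad u S ∈ X) (μ : F) :
    hF.rad u (μ ^ 2 • S) ∈ X := by
  rcases eq_or_ne μ 0 with rfl | hμ
  · rw [zero_pow two_ne_zero, zero_smul, hF.rad_zero]; exact one_mem X
  obtain ⟨a, ha, hau⟩ := hF.exists_isoA hu (smul_ne_zero hμ hu)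
  obtain ⟨g, hg, -, hgp, hev⟩ := hO.exists_lift hF ha (b := 1) (one_mem _)
  suffices hF.rad u (μ ^ 2 • S) = g * hF.rad u S * g⁻¹ by
    rw [this]; exact mul_mem (mul_mem hg h) (inv_mem hg)
  refine LinearEquiv.ext fun z => ?_
  obtain ⟨z, rfl⟩ := g.surjective z
  have he := hev u z
  rw [hau, map_smul, LinearMap.smul_apply] at he
  rw [LinearEquiv.mul_apply, LinearEquiv.mul_apply, Alt.inv_apply_self, hF.rad_apply, hF.rad_apply, map_add, hgp, hau,
    map_smul (pt), LinearMap.smul_apply, ← show μ • hF.ev u (g z) = hF.ev u z from he]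
  simp [LinearMap.smul_apply, map_smul, smul_smul, pow_two]

theorem rad_smul {u : U} (hu : u ≠ 0) {S : W →ₗ[F] W} (h : hF.rad u S ∈ X) (c : F) : hF.rad u (c • S) ∈ X := by
  obtain ⟨x, y, rfl⟩ := two_squares hF.two c
  rw [add_smul, ← hF.rad_add]
  exact mul_mem (hO.rad_sq hF hu h x) (hO.rad_sq hF hu h y)

theorem symP_conj {u : U} {a d : W} (h : hF.rad u (symP Q a d) ∈ X) {k : W ≃ₗ[F] W} (hk : k ∈ Quad.oG Q) :
    hF.rad u (symP Q (k a) (k d)) ∈ X := by
  suffices symP Q (k a) (k d) = k.toLinearMap ∘ₗ symP Q a d ∘ₗ k.symm.toLinearMap from this ▸ hO.rad_conj hF h hk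
  refine LinearMap.ext fun x => ?_
  obtain ⟨y, rfl⟩ := k.surjective x
  simp only [LinearMap.comp_apply, LinearEquiv.coe_coe, LinearEquiv.symm_apply_apply, symP_apply, map_add, map_smul,
    pS_apply, Quad.polar_eq_of_mem hk]

/-- one transvection with a singular pure centre gives all of them -/
theorem done_of_singular {u : U} (hu : u ≠ 0) {s : W} (hs : s ≠ 0) (hQs : Q s = 0)
    (h0 : pt u s ∈ centres hF.Balt X) : Done hF X := by
  set hA := hF.Balt
  have hmap : ∀ {v : V}, v ∈ centres hA X → ∀ g ∈ X, g v ∈ centres hA X := fun hv g hg =>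
    map_mem_centres hv hg (hO.iso g hg)
  have hsing : ∀ x y, Q y = 0 → pt x y ∈ centres hA X := fun x y hy => by
    rcases eq_or_ne x 0 with rfl | hx
    · rw [map_zero pt, LinearMap.zero_apply]; exact zero_mem_centres
    rcases eq_or_ne y 0 with rfl | hy0
    · rw [map_zero]; exact zero_mem_centres
    obtain ⟨a, ha, hau⟩ := hF.exists_isoA hu hx
    obtain ⟨k, hk, hks⟩ := hF.exists_map hs hy0 (hQs.trans hy.symm)
    obtain ⟨g, hg, -, hgp, -⟩ := hO.exists_lift hF ha hk
    have := hmap h0 g hg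
    rwa [hgp, hau, hks] at this
  have hpure : ∀ x y, pt x y ∈ centres hA X := fun x y => by
    by_cases hQy : Q y = 0
    · exact hsing x y hQy
    rcases eq_or_ne x 0 with rfl | hx
    · rw [map_zero pt, LinearMap.zero_apply]; exact zero_mem_centres
    obtain ⟨σ, hσ, hyσ⟩ : ∃ σ, Q σ = 0 ∧ pS Q y σ ≠ 0 := by
      obtain ⟨t, hst, hQt⟩ := hF.exists_partnerW hs hQs
      by_cases h1 : pS Q y s = 0
      swap
      · exact ⟨s, hQs, h1⟩
      by_cases h2 : pS Q y t = 0
      swap
      · exact ⟨t, hQt, h2⟩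
      refine ⟨s + (-Q y) • t + y, ?_, ?_⟩
      · rw [q_add, q_add, q_smul, hQs, hQt]
        simp only [map_add, LinearMap.add_apply, map_smul, LinearMap.smul_apply, hst, pS_symm s y, h1, pS_symm t y, h2,
          smul_eq_mul, mul_zero, zero_add, add_zero, mul_one]
        ring
      · rw [map_add, map_add, map_smul, h1, h2, smul_zero, zero_add, zero_add, pS_self]
        exact mul_ne_zero hF.two hQy
    set μ := Q y / pS Q y σ with hμ
    have hμ0 : μ ≠ 0 := div_ne_zero hQy hyσ
    have h1 : Q (y + (-μ) • σ) = 0 := by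
      rw [q_add, q_smul, hσ, map_smul, smul_eq_mul, hμ]; field_simp; ring
    set s₁ := y + (-μ) • σ with hs₁
    set σ₁ := μ • σ with hσ₁
    have hsum : s₁ + σ₁ = y := by rw [hs₁, hσ₁, add_assoc, ← add_smul, neg_add_cancel, zero_smul, add_zero]
    have hQσ₁ : Q σ₁ = 0 := by rw [hσ₁, q_smul, hσ, mul_zero]
    have hp : pS Q s₁ σ₁ ≠ 0 := by
      rw [hs₁, hσ₁, map_smul, map_add, LinearMap.add_apply, map_smul, LinearMap.smul_apply, pS_self, hσ, mul_zero,
        smul_zero, add_zero, smul_eq_mul]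
      exact mul_ne_zero hμ0 hyσ
    have hyp : pS Q y σ₁ ≠ 0 := by rw [hσ₁, map_smul, smul_eq_mul]; exact mul_ne_zero hμ0 hyσ
    obtain ⟨x', hx'⟩ := hF.exists_partner hx
    have h2 := add_smul_mem_centres (hsing x s₁ h1) (hsing x' σ₁ hQσ₁)
      (by rw [hF.prod, hx', one_mul]; exact hp) 1
    obtain ⟨g, hg, -, hgp, -⟩ := hO.exists_lift hF (Alt.tv_mem_isoGroup hF.Aalt x (-1)) (b := 1) (one_mem _)
    have h3 := hmap h2 g hg
    rw [one_smul, map_add, hgp, hgp, Alt.tv_apply, Alt.tv_apply, hF.A_self, mul_zero, zero_smul, add_zero,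
      hF.A_swap x x', hx', neg_one_mul, neg_neg, one_smul, map_add pt, LinearMap.add_apply] at h3
    have h4 : pt x y + pt x' σ₁ ∈ centres hA X := by
      rw [← hsum, map_add]
      convert h3 using 1
      show _ = (pt x) s₁ + ((pt x') σ₁ + (pt x) σ₁)
      abel
    have h5 := add_smul_mem_centres h4 (hsing x' σ₁ hQσ₁) (by
      rw [map_add, LinearMap.add_apply, hF.prod, hF.prod, hx', hF.A_self, one_mul, zero_mul, add_zero]
      exact hyp) (-1)
    rwa [neg_one_smul, add_neg_cancel_right] at h5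
  have hstep : ∀ z, z ∈ centres hA X → ∀ x y, z + pt x y ∈ centres hA X := fun z hz x y => by
    by_cases hzp : B z (pt x y) = 0
    swap
    · simpa using add_smul_mem_centres hz (hpure x y) hzp 1
    rcases eq_or_ne z 0 with rfl | hz0
    · rw [zero_add]; exact hpure x y
    rcases eq_or_ne (pt x y) 0 with h | hp0
    · rw [h, add_zero]; exact hz
    rcases eq_or_ne (z + pt x y) 0 with h | hsum0
    · rw [h]; exact zero_mem_centres
    -- a pure vector pairing with all three
    have hA1 : A x ≠ 0 := fun h => hp0 (by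
      rw [hF.And.1 x (fun t => by rw [h, LinearMap.zero_apply]), map_zero pt, LinearMap.zero_apply])
    obtain ⟨v₁, hv₁⟩ : ∃ v, hF.ev v z ≠ 0 := by
      by_contra! h; exact hz0 (hF.eq_zero_of_ev h)
    obtain ⟨v₂, hv₂⟩ : ∃ v, hF.ev v (z + pt x y) ≠ 0 := by
      by_contra! h; exact hsum0 (hF.eq_zero_of_ev h)
    obtain ⟨w₁, hw₁⟩ : ∃ w, pS Q (hF.ev v₁ z) w ≠ 0 := by
      by_contra! h; exact hv₁ (hF.eq_zero_of_pS h)
    obtain ⟨w₂, hw₂⟩ : ∃ w, pS Q (hF.ev v₂ (z + pt x y)) w ≠ 0 := by
      by_contra! h; exact hv₂ (hF.eq_zero_of_pS h)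
    let L : W → V → U →ₗ[F] F := fun w z' => ((pS Q).flip w) ∘ₗ ((hF.ev).flip z')
    obtain ⟨x', hx1, hx2, hx3⟩ := exists_ne_three (f := A x) (g := L w₁ z) (h := L w₂ (z + pt x y)) hF.two hA1
      (fun h => hw₁ (LinearMap.congr_fun h v₁)) (fun h => hw₂ (LinearMap.congr_fun h v₂))
    have hne : ∀ {e : W}, e ≠ 0 → pS Q e ≠ 0 := fun he h => he (hF.eq_zero_of_pS fun y' => by
      rw [h, LinearMap.zero_apply])
    have hy0 : y ≠ 0 := fun h => hp0 (by rw [h, map_zero])
    obtain ⟨y', hy1, hy2, hy3⟩ := exists_ne_three (f := pS Q y) (g := pS Q (hF.ev x' z))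
      (h := pS Q (hF.ev x' (z + pt x y))) hF.two (hne hy0)
      (hne (fun h => hx2 (by show pS Q (hF.ev x' z) w₁ = 0; rw [h, map_zero, LinearMap.zero_apply])))
      (hne (fun h => hx3 (by show pS Q (hF.ev x' (z + pt x y)) w₂ = 0; rw [h, map_zero, LinearMap.zero_apply])))
    rw [hF.pS_ev] at hy2 hy3
    have e1 := add_smul_mem_centres hz (hpure x' y') hy2 1
    rw [one_smul] at e1
    have e2 := add_smul_mem_centres e1 (hpure x y) (by
      rw [map_add, LinearMap.add_apply, hzp, zero_add, hF.prod, hF.A_swap x x', pS_symm y' y]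
      exact mul_ne_zero (neg_ne_zero.2 hx1) hy1) 1
    rw [one_smul] at e2
    have e3 := add_smul_mem_centres e2 (hpure x' y') (by
      rw [map_add, LinearMap.add_apply, map_add, LinearMap.add_apply, hF.prod x' y' x' y', hF.A_self, zero_mul,
        add_zero, ← LinearMap.add_apply, ← map_add]
      exact hy3) (-1)
    rwa [show z + pt x' y' + pt x y + (-1 : F) • pt x' y' = z + pt x y by rw [neg_one_smul]; abel] at e3
  intro v
  have hv : v ∈ Submodule.span F (Set.range fun p : U × W => pt p.1 p.2) := hF.span_top ▸ Submodule.mem_top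
  suffices ∀ z ∈ centres hA X, z + v ∈ centres hA X by simpa using this 0 zero_mem_centres
  induction hv using Submodule.span_induction with
  | mem p hp => obtain ⟨q, rfl⟩ := hp; exact fun z hz => hstep z hz _ _
  | zero => simp
  | add p q _ _ hp hq => intro z hz; rw [← add_assoc]; exact hq _ (hp z hz)
  | smul c p _ hp =>
    intro z hz
    rcases eq_or_ne c 0 with rfl | hc
    · simpa using hz
    · have := smul_mem_centres (hp _ (smul_mem_centres hz c⁻¹)) c
      rwa [smul_add, smul_smul, mul_inv_cancel₀ hc, one_smul] at this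

/-- a symmetric product with a singular factor -/
theorem done_of_sing_prod {u : U} (hu : u ≠ 0) {a s : W} (ha : Q a ≠ 0) (hs : s ≠ 0) (hQs : Q s = 0)
    (has : pS Q a s = 0) (h : hF.rad u (symP Q a s) ∈ X) : Done hF X := by
  have hind := hF.indep_of_perp ha hs has
  have hind' : LinearIndependent F ![a + s, s] := by
    refine LinearIndependent.pair_iff.2 fun x y e => ?_
    have := LinearIndependent.pair_iff.1 hind x (x + y) (by rw [add_smul, ← add_assoc, ← smul_add, e])
    exact ⟨this.1, by linear_combination this.2 - this.1⟩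
  obtain ⟨k, hk, hka, hks⟩ := hF.exists_map₂ hind hind' (by rw [q_add, hQs, has]; ring) rfl
    (by rw [map_add, LinearMap.add_apply, pS_self, hQs, mul_zero, add_zero])
  have h1 := hO.symP_conj hF h hk
  rw [hka, hks] at h1
  have h2 := mul_mem h1 (hO.rad_neg hF h)
  rw [hF.rad_add] at h2
  refine hO.done_of_singular hF hu hs hQs fun c => ?_
  have h3 := hO.rad_smul hF hu h2 (c / 2)
  suffices Alt.tv hF.Balt (pt u s) c = hF.rad u ((c / 2) • (symP Q (a + s) s + -symP Q a s)) from this ▸ h3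
  refine LinearEquiv.ext fun z => ?_
  rw [Alt.tv_apply, hF.rad_apply, ← hF.pS_ev]
  congr 1
  simp only [LinearMap.smul_apply, LinearMap.add_apply, LinearMap.neg_apply, symP_apply, map_add, map_smul,
    pS_symm s (hF.ev u z), map_neg]
  have := hF.two
  match_scalars <;> field_simp <;> ring

/-- a symmetric product with an anisotropic and an orthogonal vector gives a singular one -/
theorem done_of_prod {u : U} (hu : u ≠ 0) {c m s : W} (hc : Q c ≠ 0) (hm : m ≠ 0) (hcm : pS Q c m = 0) (hs : s ≠ 0)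
    (hQs : Q s = 0) (hcs : pS Q c s = 0) (h : hF.rad u (symP Q c m) ∈ X) : Done hF X := by
  by_cases hQm : Q m = 0
  · exact hO.done_of_sing_prod hF hu hc hm hQm hcm h
  have hsc : pS Q s c = 0 := (pS_symm s c).trans hcs
  -- singular multiples of `s` orthogonal to `c`
  have hfin : ∀ γ : F, γ ≠ 0 → hF.rad u (symP Q c (γ • s)) ∈ X → Done hF X := fun γ hγ h' =>
    hO.done_of_sing_prod hF hu hc (smul_ne_zero hγ hs) (by rw [q_smul, hQs, mul_zero])
      (by rw [map_smul, hcs, smul_zero]) h'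
  have hlin : ∀ d d' : W, ∀ γ δ : F, hF.rad u (symP Q c d) ∈ X → hF.rad u (symP Q c d') ∈ X →
      hF.rad u (symP Q c (γ • d + δ • d')) ∈ X := fun d d' γ δ hd hd' => by
    have := mul_mem (hO.rad_smul hF hu hd γ) (hO.rad_smul hF hu hd' δ)
    rw [hF.rad_add] at this
    suffices symP Q c (γ • d + δ • d') = γ • symP Q c d + δ • symP Q c d' from this ▸ ‹_›
    refine LinearMap.ext fun x => ?_
    simp only [LinearMap.add_apply, LinearMap.smul_apply, symP_apply, map_add, map_smul, smul_eq_mul]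
    module
  have hsieg : ∀ w, pS Q s w = 0 → pS Q c w = 0 →
      hF.rad u (symP Q c (m + pS Q m w • s + (-pS Q m s) • w + (-(Q w * pS Q m s)) • s)) ∈ X := fun w hsw hcw => by
    have hsw' : polar Q s w = 0 := hsw
    have := hO.symP_conj hF h (Quad.siegel_mem hQs hsw')
    rwa [Quad.siegel_fix hQs hsw' (show polar Q c s = 0 from hcs) (show polar Q c w = 0 from hcw),
      Quad.siegel_apply] at this
  obtain ⟨t₀, ht₀, hst₀⟩ := Quad.exists_perp hF.Qnd (S := F ∙ c) (x := s) (fun hmem => by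
    obtain ⟨γ, hγ⟩ := Submodule.mem_span_singleton.1 hmem
    rw [← hγ, q_smul, mul_eq_zero] at hQs
    exact hs (by rw [← hγ, mul_self_eq_zero.1 (hQs.resolve_right hc), zero_smul]))
  have hst₀' : pS Q s t₀ = 1 := hst₀
  set t := t₀ + (-Q t₀) • s with htdef
  have hct : pS Q c t = 0 := by
    rw [htdef, map_add, map_smul, hcs, show pS Q c t₀ = 0 from ht₀ c (Submodule.mem_span_singleton_self c), smul_zero,
      add_zero]
  have hst : pS Q s t = 1 := by rw [htdef, map_add, map_smul, hst₀', pS_self, hQs, mul_zero, smul_zero, add_zero]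
  have hQt : Q t = 0 := by rw [htdef, q_add, q_smul, hQs, map_smul, pS_symm, hst₀', smul_eq_mul]; ring
  by_cases hms : pS Q m s = 0
  · obtain ⟨w, hw, hmw⟩ := Quad.exists_perp hF.Qnd (S := Submodule.span F ({c, s} : Set W)) (x := m) (fun hmem => by
      obtain ⟨γ, δ, hγ⟩ := Submodule.mem_span_pair.1 hmem
      have h0 := congrArg (pS Q c) hγ
      rw [map_add, map_smul, map_smul, pS_self, hcs, hcm, smul_zero, add_zero, smul_eq_mul, mul_eq_zero] at h0
      rw [h0.resolve_right (mul_ne_zero hF.two hc), zero_smul, zero_add] at hγ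
      exact hQm (by rw [← hγ, q_smul, hQs, mul_zero]))
    have h1 := hsieg w (hw s (Submodule.subset_span (by simp))) (hw c (Submodule.subset_span (by simp)))
    rw [hms, show pS Q m w = 1 from hmw] at h1
    have h2 := hlin _ _ 1 (-1) h1 h
    refine hfin 1 one_ne_zero ?_
    convert h2 using 3
    module
  by_cases hW : finrank F W = 3
  · obtain ⟨l, hl0, hl1, hl2⟩ := exists_scale (hF.hex hW)
    -- `m` is a combination of `s` and `t`
    have hts : pS Q t s = 1 := (pS_symm t s).trans hst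
    have htc : pS Q t c = 0 := (pS_symm t c).trans hct
    let φ : W →ₗ[F] Fin 3 → F := LinearMap.pi ![pS Q c, pS Q s, pS Q t]
    have hφs : Function.Surjective φ := fun r => ⟨(r 0 / (2 * Q c)) • c + r 1 • t + r 2 • s, by
      funext i
      have := mul_ne_zero hF.two hc
      fin_cases i <;>
        simp [φ, map_add, map_smul, pS_self, hcs, hct, hsc, hst, hts, htc, hQs, hQt, div_mul_cancel₀ _ this]⟩
    have hφi : Function.Injective φ :=
      (LinearMap.injective_iff_surjective_of_finrank_eq_finrank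
        (by rw [hW, Module.finrank_fintype_fun_eq_card, Fintype.card_fin])).2 hφs
    set α := pS Q m t with hα
    set β := pS Q m s with hβ
    have hmeq : m = α • s + β • t := hφi (by
      funext i
      fin_cases i <;> simp [φ, map_add, map_smul, pS_self, hcs, hct, hst, hts, hQs, hQt, hcm, hα, hβ,
        pS_symm s m, pS_symm t m])
    have hα0 : α ≠ 0 := fun h0 => hQm (by rw [hmeq, h0, zero_smul, zero_add, q_smul, hQt, mul_zero])
    have h1 := hO.symP_conj hF h (Quad.hypScale_mem hQs hQt (show polar Q s t = 1 from hst) hl0)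
    rw [Quad.hypScale_apply, Quad.hypScale_apply, show polar Q c t = 0 from hct, show polar Q c s = 0 from hcs,
      mul_zero, mul_zero, zero_smul, zero_smul, add_zero, add_zero, ← pS_apply, ← pS_apply, ← hα, ← hβ] at h1
    have h2 := hlin _ _ 1 (-l⁻¹) h1 h
    refine hfin ((l - l⁻¹) * α) (mul_ne_zero (fun e => ?_) hα0) ?_
    · have hll : l * l = 1 := by
        calc l * l = l * l⁻¹ := by rw [← sub_eq_zero.1 e]
          _ = 1 := mul_inv_cancel₀ hl0
      rcases mul_self_eq_one_iff.1 hll with e | e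
      · exact hl1 e
      · exact hl2 e
    · convert h2 using 3
      conv_rhs => rw [hmeq]
      match_scalars <;> field_simp <;> ring
  -- an anisotropic vector orthogonal to `c`, `s` and `t`
  obtain ⟨w, hw, hQw⟩ : ∃ w, (pS Q c w = 0 ∧ pS Q s w = 0) ∧ Q w ≠ 0 := by
    obtain ⟨z, hz, hz0⟩ : ∃ z ∈ LinearMap.ker (pS Q c) ⊓ LinearMap.ker (pS Q s) ⊓ LinearMap.ker (pS Q t), z ≠ 0 := by
      refine Submodule.exists_mem_ne_zero_of_ne_bot fun h0 => ?_
      have e1 := SpTwo.Over.finrank_inf_ker (⊤ : Submodule F W) (pS Q c)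
      have e2 := SpTwo.Over.finrank_inf_ker (⊤ ⊓ LinearMap.ker (pS Q c)) (pS Q s)
      have e3 := SpTwo.Over.finrank_inf_ker (⊤ ⊓ LinearMap.ker (pS Q c) ⊓ LinearMap.ker (pS Q s)) (pS Q t)
      rw [top_inf_eq] at e1 e2 e3
      rw [h0, finrank_bot] at e3
      rw [finrank_top] at e1
      have := hF.dimW
      omega
    obtain ⟨⟨hzc : pS Q c z = 0, hzs : pS Q s z = 0⟩, hzt : pS Q t z = 0⟩ := hz
    by_cases hQz : Q z = 0
    swap
    · exact ⟨z, ⟨hzc, hzs⟩, hQz⟩
    obtain ⟨y, hy, hzy⟩ := Quad.exists_perp hF.Qnd (S := Submodule.span F ({c, s, t} : Set W)) (x := z) (fun hmem => by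
      have hle : Submodule.span F ({c, s, t} : Set W) ≤ LinearMap.ker ((pS Q).flip z) :=
        Submodule.span_le.2 fun x hx => by
          rcases hx with rfl | rfl | rfl
          · exact hzc
          · exact hzs
          · exact hzt
      obtain ⟨γ, y, hy, rfl⟩ := Submodule.mem_span_insert.1 hmem
      obtain ⟨δ, ε, rfl⟩ := Submodule.mem_span_pair.1 hy
      simp only [map_add, map_smul, smul_eq_mul, pS_self, hcs, hct, hst, hQs, hQt, hsc, pS_symm t c, pS_symm t s,
        mul_zero, mul_one, add_zero, zero_add] at hzc hzs hzt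
      exact hz0 (by
        rw [(mul_eq_zero.1 hzc).resolve_right (mul_ne_zero hF.two hc), hzs, hzt]
        simp))
    have hy' : ∀ x ∈ ({c, s, t} : Set W), pS Q x y = 0 := fun x hx => hy x (Submodule.subset_span hx)
    by_cases h1 : Q (z + y) = 0
    swap
    · exact ⟨z + y, ⟨by rw [map_add, hzc, hy' c (by simp), add_zero],
        by rw [map_add, hzs, hy' s (by simp), add_zero]⟩, h1⟩
    refine ⟨z - y, ⟨by rw [map_sub, hzc, hy' c (by simp), sub_zero],
      by rw [map_sub, hzs, hy' s (by simp), sub_zero]⟩, fun h2 => ?_⟩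
    rw [q_add, hQz, show pS Q z y = 1 from hzy] at h1
    rw [sub_eq_add_neg, q_add, QuadraticMap.map_neg, map_neg, hQz, show pS Q z y = 1 from hzy] at h2
    exact hF.two (by linear_combination h1 - h2)
  have hβ : pS Q m s ≠ 0 := hms
  have h1 := hsieg w hw.2 hw.1
  have h2 := hsieg (-w) (by rw [map_neg, hw.2, neg_zero]) (by rw [map_neg, hw.1, neg_zero])
  have h3 := hlin _ _ 1 1 h1 h2
  have h4 := hlin _ _ 1 (-2) h3 h
  refine hfin (-(2 * Q w * pS Q m s)) (neg_ne_zero.2 (mul_ne_zero (mul_ne_zero hF.two hQw) hβ)) ?_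
  convert h4 using 3
  simp only [QuadraticMap.map_neg, map_neg]
  module

/-- a non-scalar element supported on one subspace gives every transvection -/
theorem rad_done {u : U} (hu : u ≠ 0) {S : W →ₗ[F] W} (h : hF.rad u S ∈ X) (hS : ¬ ∃ μ : F, ∀ y, S y = μ • y) :
    Done hF X := by
  have hadj := hO.rad_adj hF hu h
  obtain ⟨c, hc, hSc, s, hs, hQs, hcs⟩ : ∃ c, Q c ≠ 0 ∧ (∀ μ : F, S c ≠ μ • c) ∧
      ∃ s, s ≠ 0 ∧ Q s = 0 ∧ pS Q c s = 0 := by
    by_contra! hall
    have heig : ∀ c s, Q c ≠ 0 → s ≠ 0 → Q s = 0 → pS Q c s = 0 → ∃ μ : F, S c = μ • c ∧ S s = μ • s := by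
      intro c s hc hs hQs hcs
      have hgood : ∀ k : F, ∃ μ : F, S (c + k • s) = μ • (c + k • s) := fun k => by
        have h1 : Q (c + k • s) ≠ 0 := by rwa [q_add, q_smul, hQs, map_smul, hcs, smul_zero, mul_zero, add_zero, add_zero]
        have h2 : pS Q (c + k • s) s = 0 := by
          rw [map_add, LinearMap.add_apply, hcs, map_smul, LinearMap.smul_apply, pS_self, hQs, mul_zero, smul_zero,
            add_zero]
        by_contra! hne
        exact hall (c + k • s) h1 hne s hs hQs h2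
      obtain ⟨μ, hμ⟩ := hgood 0
      obtain ⟨μ₁, h₁⟩ := hgood 1
      obtain ⟨μ₂, h₂⟩ := hgood (-1)
      rw [zero_smul, add_zero] at hμ
      refine ⟨μ, hμ, ?_⟩
      rw [one_smul, map_add, hμ] at h₁
      rw [neg_one_smul, map_add, map_neg, hμ] at h₂
      have hli := LinearIndependent.pair_iff.1 (hF.indep_of_perp hc hs hcs) (2 * μ - μ₁ - μ₂) (μ₂ - μ₁) (by
        rw [show (2 * μ - μ₁ - μ₂) • c + (μ₂ - μ₁) • s =
          (μ • c + S s - μ₁ • (c + s)) + (μ • c + -S s - μ₂ • (c + -s)) by module, h₁, h₂, sub_self, sub_self, add_zero])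
      have e1 : μ₁ = μ := mul_left_cancel₀ hF.two (by linear_combination -hli.1 - hli.2)
      rw [e1, smul_add] at h₁
      exact add_left_cancel h₁
    obtain ⟨s₀, -, hs₀, hQs₀⟩ := hF.exists_singular (⊤ : Submodule F W) (by rw [finrank_top]; exact hF.dimW)
    obtain ⟨t₀, hst, hQt₀⟩ := hF.exists_partnerW hs₀ hQs₀
    have hts : pS Q t₀ s₀ = 1 := (pS_symm _ _).trans hst
    have ht₀ : t₀ ≠ 0 := fun h0 => by rw [h0, map_zero] at hst; exact zero_ne_one hst
    -- the pair has one eigenvalue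
    have hpair : ∀ s t, Q s = 0 → Q t = 0 → pS Q s t ≠ 0 → ∀ μ : F, S s = μ • s → S t = μ • t := by
      intro s t hQs hQt hst' μ hμ
      have hs : s ≠ 0 := fun h0 => hst' (by rw [h0, map_zero, LinearMap.zero_apply])
      have ht : t ≠ 0 := fun h0 => hst' (by rw [h0, map_zero])
      obtain ⟨c, hc, hcs, hct⟩ : ∃ c, Q c ≠ 0 ∧ pS Q c s = 0 ∧ pS Q c t = 0 := by
        obtain ⟨c, hc, hsc⟩ := hF.exists_aniso_perp s
        refine ⟨c + (-(pS Q c t / pS Q s t)) • s, ?_, ?_, ?_⟩
        · rwa [q_add, q_smul, hQs, map_smul, pS_symm c s, hsc, smul_zero, mul_zero, add_zero, add_zero]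
        · rw [map_add, LinearMap.add_apply, map_smul, LinearMap.smul_apply, pS_self, hQs, pS_symm c s, hsc, mul_zero,
            smul_zero, add_zero]
        · rw [map_add, LinearMap.add_apply, map_smul, LinearMap.smul_apply, smul_eq_mul, neg_mul,
            div_mul_cancel₀ _ hst', add_neg_cancel]
      obtain ⟨μ₁, hc1, hs1⟩ := heig c s hc hs hQs hcs
      obtain ⟨μ₂, hc2, ht2⟩ := heig c t hc ht hQt hct
      have e1 : μ₁ = μ := smul_left_injective F hs (hs1.symm.trans hμ)
      have e2 : μ₂ = μ₁ := smul_left_injective F (fun h0 : c = 0 => hc (by rw [h0, QuadraticMap.map_zero]))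
        (hc2.symm.trans hc1)
      rw [ht2, e2, e1]
    obtain ⟨μ, -, hμ⟩ := heig _ s₀ (hF.exists_aniso_perp s₀).choose_spec.1 hs₀ hQs₀
      ((pS_symm _ _).trans (hF.exists_aniso_perp s₀).choose_spec.2)
    have hμt : S t₀ = μ • t₀ := hpair s₀ t₀ hQs₀ hQt₀ (by rw [hst]; exact one_ne_zero) μ hμ
    have hsingular : ∀ σ, Q σ = 0 → S σ = μ • σ := fun σ hσ => by
      by_cases h1 : pS Q s₀ σ = 0
      swap
      · exact hpair s₀ σ hQs₀ hσ h1 μ hμ
      by_cases h2 : pS Q t₀ σ = 0
      swap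
      · exact hpair t₀ σ hQt₀ hσ h2 μ hμt
      have h3 := hpair t₀ (σ + s₀) hQt₀ (by rw [q_add, hσ, hQs₀, pS_symm, h1]; ring)
        (by rw [map_add, h2, zero_add, hts]; exact one_ne_zero) μ hμt
      rw [map_add, hμ, smul_add] at h3
      exact add_right_cancel h3
    refine hS ⟨μ, fun y => ?_⟩
    by_cases hQy : Q y = 0
    · exact hsingular y hQy
    obtain ⟨σ, hσ, hyσ⟩ : ∃ σ, Q σ = 0 ∧ pS Q y σ ≠ 0 := by
      by_cases h1 : pS Q y s₀ = 0
      swap
      · exact ⟨s₀, hQs₀, h1⟩
      by_cases h2 : pS Q y t₀ = 0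
      swap
      · exact ⟨t₀, hQt₀, h2⟩
      refine ⟨s₀ + (-Q y) • t₀ + y, ?_, ?_⟩
      · rw [q_add, q_add, q_smul, hQs₀, hQt₀]
        simp only [map_add, LinearMap.add_apply, map_smul, LinearMap.smul_apply, hst, pS_symm s₀ y, h1, pS_symm t₀ y, h2,
          smul_eq_mul, mul_zero, zero_add, add_zero, mul_one]
        ring
      · rw [map_add, map_add, map_smul, h1, h2, smul_zero, zero_add, zero_add, pS_self]
        exact mul_ne_zero hF.two hQy
    have h1 := hsingular (y + (-(Q y / pS Q y σ)) • σ) (by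
      rw [q_add, q_smul, hσ, map_smul, smul_eq_mul]; field_simp; ring)
    rw [map_add, map_smul, hsingular σ hσ, smul_add, smul_comm μ] at h1
    exact add_right_cancel h1
  -- the difference with a conjugate by a reflection
  set γ := pS Q c (S c) / (2 * Q c) with hγ
  set m := S c - γ • c with hm
  have hcm : pS Q c m = 0 := by
    rw [hm, map_sub, map_smul, pS_self, smul_eq_mul, hγ, div_mul_cancel₀ _ (mul_ne_zero hF.two hc), sub_self]
  have hm0 : m ≠ 0 := fun h0 => hSc γ (sub_eq_zero.1 h0)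
  refine hO.done_of_prod hF hu hc hm0 hcm hs hQs hcs ?_
  set r := Quad.refl hc
  have h1 := mul_mem h (hO.rad_neg hF (hO.rad_conj hF h (Quad.refl_mem hc)))
  rw [hF.rad_add] at h1
  have h2 := hO.rad_smul hF hu h1 (Q c)
  clear_value m γ
  suffices symP Q c m = Q c • (S + -(r.toLinearMap ∘ₗ S ∘ₗ r.symm.toLinearMap)) from this ▸ h2
  refine LinearMap.ext fun x => ?_
  have hr : r.symm x = x - (pS Q x c / Q c) • c := rfl
  simp only [LinearMap.smul_apply, LinearMap.add_apply, LinearMap.neg_apply, LinearMap.comp_apply, LinearEquiv.coe_coe, hr]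
  rw [Quad.refl_apply, ← pS_apply, map_sub, map_smul, symP_apply]
  have e1 : pS Q (S x) c = pS Q x m + γ * pS Q x c := by
    rw [hadj, hm, map_sub, map_smul, smul_eq_mul]; ring
  have e2 : pS Q (S c) c = γ * (2 * Q c) := by
    rw [pS_symm, hγ, div_mul_cancel₀ _ (mul_ne_zero hF.two hc)]
  rw [map_sub (pS Q), LinearMap.sub_apply, map_smul (pS Q), LinearMap.smul_apply, smul_eq_mul, e1, e2,
    show S c = m + γ • c by rw [hm, sub_add_cancel], pS_symm c x, pS_symm m x]
  match_scalars <;> field_simp <;> ring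

end Over

end Cfsg.Agent.ClassicalMax.SpTensor
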