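import Cfsg.Agent.ClassicalMax.SpTwo.Basic
import Cfsg.Agent.Classical.QuadDecomp
import Cfsg.Agent.Classical.QuadClass
import Cfsg.Agent.Classical.AltBasis
import Cfsg.Agent.Classical.AltSimple

/-!
A symplectic space that is the tensor product of a symplectic space `U` and an orthogonal space `W`: contraction with a
vector of `U`, the unipotent maps supported on `u ⊗ W`, and the maps preserving the decomposition.
-/

set_option autoImplicit false
set_option linter.unusedSectionVars false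
set_option linter.style.haveILetI false

namespace Cfsg.Agent.ClassicalMax.SpTensor

open Module QuadraticMap Cfsg.Agent.Classical Cfsg.Agent.ClassicalMax
open Cfsg.Agent.ClassicalMax.SpTwo (pS pS_apply pS_symm pS_self q_add q_smul)

variable {F U W V : Type*} [Field F] [AddCommGroup U] [Module F U] [AddCommGroup W] [Module F W] [AddCommGroup V]
  [Module F V] {B : LinearMap.BilinForm F V} {A : LinearMap.BilinForm F U} {Q : QuadraticForm F W}
  {pt : U →ₗ[F] W →ₗ[F] V}

/-- a tensor decomposition of a symplectic space into a symplectic and an orthogonal factor -/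
structure Frame (B : LinearMap.BilinForm F V) (A : LinearMap.BilinForm F U) (Q : QuadraticForm F W)
    (pt : U →ₗ[F] W →ₗ[F] V) : Prop where
  two : (2 : F) ≠ 0
  Balt : B.IsAlt
  Bnd : B.Nondegenerate
  Aalt : A.IsAlt
  And : A.Nondegenerate
  Qnd : (polarBilin Q).Nondegenerate
  dimU : 4 ≤ finrank F U
  dimW : 3 ≤ finrank F W
  hex : finrank F W = 3 → 5 ≤ Nat.card F
  prod : ∀ u y u' y', B (pt u y) (pt u' y') = A u u' * pS Q y y'
  span : ∀ z, (∀ u y, B z (pt u y) = 0) → z = 0
  lift : ∀ (a : U ≃ₗ[F] U) (b : W ≃ₗ[F] W), ∃ g : V ≃ₗ[F] V, ∀ x y, g (pt x y) = pt (a x) (b y)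

/-- the map preserves the decomposition -/
def InN (pt : U →ₗ[F] W →ₗ[F] V) (g : V ≃ₗ[F] V) : Prop :=
  ∃ (a : U →ₗ[F] U) (b : W →ₗ[F] W), ∀ x y, g (pt x y) = pt (a x) (b y)

theorem InN.one : InN pt (1 : V ≃ₗ[F] V) := ⟨LinearMap.id, LinearMap.id, fun _ _ => rfl⟩

theorem InN.mul {g h : V ≃ₗ[F] V} (hg : InN pt g) (hh : InN pt h) : InN pt (g * h) := by
  obtain ⟨a, b, e⟩ := hg
  obtain ⟨a', b', e'⟩ := hh
  exact ⟨a ∘ₗ a', b ∘ₗ b', fun x y => by rw [LinearEquiv.mul_apply, e', e]; rfl⟩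

variable [FiniteDimensional F U] [FiniteDimensional F W]

/-- two linear forms that are not zero have a common non-zero -/
theorem exists_ne_two {E : Type*} [AddCommGroup E] [Module F E] {f g : E →ₗ[F] F} (hf : f ≠ 0) (hg : g ≠ 0) :
    ∃ x, f x ≠ 0 ∧ g x ≠ 0 := by
  obtain ⟨x, hx⟩ : ∃ x, f x ≠ 0 := by
    by_contra h; push Not at h; exact hf (LinearMap.ext h)
  obtain ⟨y, hy⟩ : ∃ y, g y ≠ 0 := by
    by_contra h; push Not at h; exact hg (LinearMap.ext h)
  by_cases h1 : g x = 0
  swap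
  · exact ⟨x, hx, h1⟩
  by_cases h2 : f y = 0
  swap
  · exact ⟨y, h2, hy⟩
  exact ⟨x + y, by rw [map_add, h2, add_zero]; exact hx, by rw [map_add, h1, zero_add]; exact hy⟩

/-- three linear forms that are not zero have a common non-zero in odd characteristic -/
theorem exists_ne_three {E : Type*} [AddCommGroup E] [Module F E] (h2 : (2 : F) ≠ 0) {f g h : E →ₗ[F] F} (hf : f ≠ 0)
    (hg : g ≠ 0) (hh : h ≠ 0) : ∃ x, f x ≠ 0 ∧ g x ≠ 0 ∧ h x ≠ 0 := by
  obtain ⟨x, hx, hx'⟩ := exists_ne_two hf hg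
  obtain ⟨y, hy⟩ : ∃ y, h y ≠ 0 := by
    by_contra h'; push Not at h'; exact hh (LinearMap.ext h')
  by_cases h1 : h x = 0
  swap
  · exact ⟨x, hx, hx', h1⟩
  by_cases hy1 : f y = 0
  · by_cases hp : g (x + y) = 0
    · refine ⟨x - y, by rw [map_sub, hy1, sub_zero]; exact hx, fun hm => hx' ?_,
        by rw [map_sub, h1, zero_sub, neg_ne_zero]; exact hy⟩
      rw [map_add] at hp
      rw [map_sub] at hm
      exact (mul_eq_zero.1 (show (2 : F) * g x = 0 by linear_combination hp + hm)).resolve_left h2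
    · exact ⟨x + y, by rw [map_add, hy1, add_zero]; exact hx, hp, by rw [map_add, h1, zero_add]; exact hy⟩
  by_cases hy2 : g y = 0
  · by_cases hp : f (x + y) = 0
    · refine ⟨x - y, fun hm => hx ?_, by rw [map_sub, hy2, sub_zero]; exact hx',
        by rw [map_sub, h1, zero_sub, neg_ne_zero]; exact hy⟩
      rw [map_add] at hp
      rw [map_sub] at hm
      exact (mul_eq_zero.1 (show (2 : F) * f x = 0 by linear_combination hp + hm)).resolve_left h2
    · exact ⟨x + y, hp, by rw [map_add, hy2, add_zero]; exact hx', by rw [map_add, h1, zero_add]; exact hy⟩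
  exact ⟨y, hy1, hy2, hy⟩

namespace Frame

variable (hF : Frame B A Q pt)
include hF

theorem nontrivialU : Nontrivial U := Module.nontrivial_of_finrank_pos (R := F) (by have := hF.dimU; omega)

theorem nontrivialW : Nontrivial W := Module.nontrivial_of_finrank_pos (R := F) (by have := hF.dimW; omega)

theorem A_swap (x y : U) : A y x = -A x y := (LinearMap.IsAlt.neg hF.Aalt x y).symm

theorem A_perp_symm {x y : U} (h : A x y = 0) : A y x = 0 := by rw [hF.A_swap x y, h, neg_zero]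

theorem A_self (x : U) : A x x = 0 := hF.Aalt x

theorem B_swap (x y : V) : B y x = -B x y := (LinearMap.IsAlt.neg hF.Balt x y).symm

theorem exists_partner {u : U} (hu : u ≠ 0) : ∃ u', A u u' = 1 := by
  obtain ⟨w, hw⟩ : ∃ w, A u w ≠ 0 := by
    by_contra h; push Not at h; exact hu (hF.And.1 u h)
  exact ⟨(A u w)⁻¹ • w, by rw [map_smul, smul_eq_mul, inv_mul_cancel₀ hw]⟩

theorem eq_zero_of_pS {y : W} (h : ∀ y', pS Q y y' = 0) : y = 0 := hF.Qnd.1 y h

theorem eq_of_pS {y y₂ : W} (h : ∀ y', pS Q y y' = pS Q y₂ y') : y = y₂ :=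
  sub_eq_zero.1 (hF.eq_zero_of_pS fun y' => by rw [map_sub, LinearMap.sub_apply, h, sub_self])

end Frame

/-- contraction with a vector of the first factor -/
noncomputable def Frame.ev (hF : Frame B A Q pt) : U →ₗ[F] V →ₗ[F] W :=
  LinearMap.mk₂ F
    (fun v z => (LinearMap.BilinForm.toDual (polarBilin Q) hF.Qnd).symm ((B z).comp (pt v)))
    (fun v v' z => by rw [map_add, LinearMap.comp_add, map_add])
    (fun c v z => by rw [map_smul, LinearMap.comp_smul, map_smul])
    (fun v z z' => by rw [map_add, LinearMap.add_comp, map_add])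
    (fun c v z => by rw [map_smul, LinearMap.smul_comp, map_smul])

namespace Frame

variable (hF : Frame B A Q pt)

theorem pS_ev (v : U) (z : V) (y : W) : pS Q (hF.ev v z) y = B z (pt v y) := by
  show polarBilin Q _ y = _
  rw [Frame.ev, LinearMap.mk₂_apply, LinearMap.BilinForm.apply_toDual_symm_apply, LinearMap.comp_apply]

theorem ev_pt (v u : U) (y : W) : hF.ev v (pt u y) = A u v • y :=
  hF.eq_of_pS fun y' => by rw [pS_ev, hF.prod, map_smul, LinearMap.smul_apply, smul_eq_mul]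

theorem eq_zero_of_ev {z : V} (h : ∀ v, hF.ev v z = 0) : z = 0 :=
  hF.span z fun u y => by rw [← pS_ev hF, h, map_zero, LinearMap.zero_apply]

theorem eq_of_ev {z z' : V} (h : ∀ v, hF.ev v z = hF.ev v z') : z = z' :=
  sub_eq_zero.1 (hF.eq_zero_of_ev fun v => by rw [map_sub, h, sub_self])

include hF

theorem pt_injective {u : U} (hu : u ≠ 0) : Function.Injective (pt u) := fun y y' h => by
  obtain ⟨u', hu'⟩ := hF.exists_partner hu
  have := congrArg (hF.ev u') h
  rwa [hF.ev_pt, hF.ev_pt, hu', one_smul, one_smul] at this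

theorem finrank_R {u : U} (hu : u ≠ 0) : finrank F (LinearMap.range (pt u)) = finrank F W :=
  LinearMap.finrank_range_of_inj (hF.pt_injective hu)

theorem ev_mem_R {u v : U} (huv : A u v = 0) {z : V} (hz : z ∈ LinearMap.range (pt u)) : hF.ev v z = 0 := by
  obtain ⟨y, rfl⟩ := hz
  rw [hF.ev_pt, huv, zero_smul]

theorem mem_R {u : U} (hu : u ≠ 0) {z : V} (h : ∀ v, A u v = 0 → hF.ev v z = 0) :
    z ∈ LinearMap.range (pt u) := by
  obtain ⟨u', hu'⟩ := hF.exists_partner hu
  refine ⟨hF.ev u' z, hF.eq_of_ev fun v => ?_⟩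
  have h0 := h (v - A u v • u') (by rw [map_sub, map_smul, hu', smul_eq_mul, mul_one, sub_self])
  rw [map_sub, map_smul, LinearMap.sub_apply, LinearMap.smul_apply, sub_eq_zero] at h0
  rw [hF.ev_pt, h0]

theorem span_top [FiniteDimensional F V] : Submodule.span F (Set.range fun p : U × W => pt p.1 p.2) = ⊤ := by
  by_contra h
  obtain ⟨φ, hφ, hle⟩ := Submodule.exists_le_ker_of_lt_top _ (lt_top_iff_ne_top.2 h)
  obtain ⟨z, rfl⟩ := (LinearMap.BilinForm.toDual B hF.Bnd).surjective φ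
  refine hφ ?_
  rw [hF.span z fun u y => hle (Submodule.subset_span ⟨(u, y), rfl⟩), map_zero]

theorem ext_pure [FiniteDimensional F V] {M : Type*} [AddCommGroup M] [Module F M] {f g : V →ₗ[F] M}
    (h : ∀ x y, f (pt x y) = g (pt x y)) : f = g :=
  LinearMap.ext_on hF.span_top (by rintro _ ⟨p, rfl⟩; exact h p.1 p.2)

/-! ### the second factor -/

theorem exists_singular [Finite F] (S : Submodule F W) (hS : 3 ≤ finrank F S) : ∃ s ∈ S, s ≠ 0 ∧ Q s = 0 := by
  obtain ⟨v, hv, hQv⟩ := Quad.exists_singular (Q.comp S.subtype) hS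
  exact ⟨v, v.2, fun h => hv (Subtype.ext h), hQv⟩

theorem exists_partnerW {s : W} (hs : s ≠ 0) (hQs : Q s = 0) : ∃ t, pS Q s t = 1 ∧ Q t = 0 := by
  obtain ⟨w, -, hw⟩ := Quad.exists_perp hF.Qnd (S := ⊥) (x := s) (by simpa using hs)
  have hw' : pS Q s w = 1 := hw
  refine ⟨w + (-Q w) • s, by rw [map_add, map_smul, pS_self, hQs, mul_zero, smul_zero, add_zero, hw'], ?_⟩
  rw [q_add, q_smul, hQs, map_smul, pS_symm, hw', smul_eq_mul]
  ring

theorem exists_map {x y : W} (hx : x ≠ 0) (hy : y ≠ 0) (h : Q x = Q y) : ∃ k ∈ Quad.oG Q, k x = y := by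
  obtain ⟨k, hk, hkx⟩ := Quad.witt_family hF.Qnd 1 ![x] ![y] (LinearIndependent.of_subsingleton 0 hx)
    (LinearIndependent.of_subsingleton 0 hy) (fun i => by fin_cases i; simp [h])
    (fun i j => by fin_cases i; fin_cases j; simp [h])
  exact ⟨k, hk, hkx 0⟩

theorem exists_map₂ {a b a' b' : W} (hab : LinearIndependent F ![a, b]) (hab' : LinearIndependent F ![a', b'])
    (ha : Q a = Q a') (hb : Q b = Q b') (h : pS Q a b = pS Q a' b') : ∃ k ∈ Quad.oG Q, k a = a' ∧ k b = b' := by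
  obtain ⟨k, hk, hkx⟩ := Quad.witt_family hF.Qnd 2 ![a, b] ![a', b'] hab hab'
    (fun i => by fin_cases i <;> simp [ha, hb])
    (fun i j => by
      show pS Q (![a, b] i) (![a, b] j) = pS Q (![a', b'] i) (![a', b'] j)
      fin_cases i <;> fin_cases j <;> simp [pS_self, ha, hb, h, pS_symm b a, pS_symm b' a'])
  exact ⟨k, hk, hkx 0, hkx 1⟩

theorem indep_of_perp {a d : W} (ha : Q a ≠ 0) (hd : d ≠ 0) (had : pS Q a d = 0) :
    LinearIndependent F ![a, d] := by
  refine LinearIndependent.pair_iff.2 fun s t e => ?_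
  have h1 := congrArg (pS Q a) e
  rw [map_add, map_smul, map_smul, pS_self, had, smul_zero, add_zero, map_zero, smul_eq_mul, mul_eq_zero] at h1
  have hs : s = 0 := h1.resolve_right (mul_ne_zero hF.two ha)
  rw [hs, zero_smul, zero_add, smul_eq_zero] at e
  exact ⟨hs, e.resolve_right hd⟩

/-- an anisotropic vector orthogonal to a singular one -/
theorem exists_aniso_perp (s : W) : ∃ c, Q c ≠ 0 ∧ pS Q s c = 0 := by
  by_contra! h
  have h' : ∀ w ∈ LinearMap.ker (pS Q s), Q w = 0 := fun w hw => by_contra fun hne => h w hne hw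
  have h1 := Quad.two_mul_finrank_le hF.Qnd h'
  have h2 := SpTwo.Over.finrank_inf_ker (⊤ : Submodule F W) (pS Q s)
  rw [top_inf_eq, finrank_top] at h2
  have := hF.dimW
  omega

theorem exists_aniso : ∃ c, Q c ≠ 0 := by
  by_contra! h
  have h1 := Quad.two_mul_finrank_le hF.Qnd (W := ⊤) (fun w _ => h w)
  rw [finrank_top] at h1
  have := hF.dimW
  omega

/-! ### the first factor -/

theorem exists_isoA {u v : U} (hu : u ≠ 0) (hv : v ≠ 0) : ∃ a ∈ Alt.isoGroup A, a u = v := by
  obtain ⟨g, hg⟩ := Alt.exists_iso_map hF.Aalt hF.And hu hv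
  exact ⟨g.1, g.2, hg⟩

/-- a plane orthogonal to a vector, away from it -/
theorem exists_plane {v : U} (hv : v ≠ 0) : ∃ x t, A v x = 0 ∧ A v t = 0 ∧ A x t = 1 := by
  obtain ⟨v', hv'⟩ := hF.exists_partner hv
  obtain ⟨x, hx, hx0⟩ : ∃ x ∈ LinearMap.ker (A v) ⊓ LinearMap.ker (A v'), x ≠ 0 := by
    refine Submodule.exists_mem_ne_zero_of_ne_bot fun h0 => ?_
    have e1 := SpTwo.Over.finrank_inf_ker (⊤ : Submodule F U) (A v)
    have e2 := SpTwo.Over.finrank_inf_ker (⊤ ⊓ LinearMap.ker (A v)) (A v')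
    rw [top_inf_eq] at e1 e2
    rw [h0, finrank_bot] at e2
    rw [finrank_top] at e1
    have := hF.dimU
    omega
  obtain ⟨t₀, ht₀⟩ := hF.exists_partner hx0
  have h1 : A x v = 0 := hF.A_perp_symm hx.1
  have h2 : A x v' = 0 := hF.A_perp_symm hx.2
  refine ⟨x, t₀ - A v t₀ • v' + A v' t₀ • v, hx.1, ?_, ?_⟩
  · rw [map_add, map_sub, map_smul, map_smul, hv', hF.A_self, smul_eq_mul, smul_eq_mul]; ring
  · rw [map_add, map_sub, map_smul, map_smul, ht₀, h1, h2]; simp

/-- a similitude of the first factor fixing a vector -/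
theorem exists_sim {u : U} (hu : u ≠ 0) {μ : F} (hμ : μ ≠ 0) :
    ∃ a : U ≃ₗ[F] U, a u = u ∧ ∀ x y, A (a x) (a y) = μ * A x y := by
  classical
  obtain ⟨m, k, b, hef, hee, hff, hrad⟩ := Alt.exists_basis_symp hF.Aalt
  have hk : IsEmpty (Fin k) := ⟨fun j => b.ne_zero (Sum.inr j) (hF.And.1 _ (hrad j))⟩
  let φ : U →ₗ[F] U := b.constr F (Sum.elim (Sum.elim (fun i => b (Sum.inl (Sum.inl i)))
    (fun i => μ • b (Sum.inl (Sum.inr i)))) (fun j => b (Sum.inr j)))
  have hφ : ∀ x y, A (φ x) (φ y) = μ * A x y := by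
    have : A.compl₁₂ φ φ = μ • A := by
      refine b.ext fun i => b.ext fun j => ?_
      rw [LinearMap.compl₁₂_apply, LinearMap.smul_apply, LinearMap.smul_apply, Basis.constr_basis, Basis.constr_basis]
      rcases i with (i | i) | i <;> (try exact isEmptyElim i) <;> rcases j with (j | j) | j <;>
        (try exact isEmptyElim j) <;>
        simp [hef, hee, hff, hF.A_swap (b (Sum.inl (Sum.inl _))) (b (Sum.inl (Sum.inr _)))]
    exact fun x y => LinearMap.congr_fun₂ this x y
  have hinj : Function.Injective φ := (injective_iff_map_eq_zero φ).2 fun x hx => hF.And.1 x fun y => by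
    have := hφ x y
    rw [hx, map_zero, LinearMap.zero_apply, eq_comm, mul_eq_zero] at this
    exact this.resolve_left hμ
  let a₀ := LinearEquiv.ofInjectiveEndo φ hinj
  have hne : a₀ u ≠ 0 := fun h => hu (a₀.injective (h.trans (map_zero a₀).symm))
  obtain ⟨s, hs, hsu⟩ := hF.exists_isoA hne hu
  exact ⟨a₀.trans s, hsu, fun x y => by rw [LinearEquiv.trans_apply, LinearEquiv.trans_apply, hs]; exact hφ x y⟩

/-! ### preserving maps -/

theorem iso_of_pure [FiniteDimensional F V] {g : V ≃ₗ[F] V}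
    (h : ∀ x y x' y', B (g (pt x y)) (g (pt x' y')) = B (pt x y) (pt x' y')) : g ∈ Alt.isoGroup B := by
  have : B.compl₁₂ g.toLinearMap g.toLinearMap = B := hF.ext_pure fun x y => hF.ext_pure fun x' y' => h x y x' y'
  exact fun z z' => LinearMap.congr_fun₂ this z z'

/-- similitudes of inverse multipliers give an isometry -/
theorem exists_lift [FiniteDimensional F V] {a : U ≃ₗ[F] U} {b : W ≃ₗ[F] W} {μ ν : F}
    (ha : ∀ x y, A (a x) (a y) = μ * A x y) (hb : ∀ x y, pS Q (b x) (b y) = ν * pS Q x y) (hμν : μ * ν = 1) :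
    ∃ g : V ≃ₗ[F] V, g ∈ Alt.isoGroup B ∧ InN pt g ∧ (∀ x y, g (pt x y) = pt (a x) (b y)) ∧
      ∀ u z, hF.ev (a u) (g z) = μ • b (hF.ev u z) := by
  obtain ⟨g, hg⟩ := hF.lift a b
  have hiso : g ∈ Alt.isoGroup B := hF.iso_of_pure fun x y x' y' => by
    rw [hg, hg, hF.prod, hF.prod, ha, hb]
    linear_combination (A x x' * pS Q y y') * hμν
  refine ⟨g, hiso, ⟨a, b, hg⟩, hg, fun u z => hF.eq_of_pS fun y => ?_⟩
  obtain ⟨y, rfl⟩ := b.surjective y
  rw [hF.pS_ev, map_smul, LinearMap.smul_apply, smul_eq_mul, hb, hF.pS_ev, ← hg, hiso]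
  linear_combination (-(B z (pt u y))) * hμν

theorem inN_inv [FiniteDimensional F V] {g : V ≃ₗ[F] V} (hg : InN pt g) : InN pt g⁻¹ := by
  haveI := hF.nontrivialU
  haveI := hF.nontrivialW
  obtain ⟨a, b, e⟩ := hg
  have ha : Function.Injective a := (injective_iff_map_eq_zero a).2 fun x hx => by
    by_contra hx0
    obtain ⟨y, hy⟩ := exists_ne (0 : W)
    refine hy (hF.pt_injective hx0 (g.injective ?_))
    rw [e, hx, map_zero (pt), LinearMap.zero_apply, map_zero (pt x), map_zero g]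
  have hb : Function.Injective b := (injective_iff_map_eq_zero b).2 fun y hy => by
    obtain ⟨x, hx⟩ := exists_ne (0 : U)
    refine hF.pt_injective hx (g.injective ?_)
    rw [e, hy, map_zero (pt (a x)), map_zero (pt x), map_zero g]
  refine ⟨(LinearEquiv.ofInjectiveEndo a ha).symm.toLinearMap, (LinearEquiv.ofInjectiveEndo b hb).symm.toLinearMap,
    fun x y => g.injective ?_⟩
  rw [Alt.apply_inv_self, e]
  exact (congrArg₂ (fun p q => pt p q) ((LinearEquiv.ofInjectiveEndo a ha).apply_symm_apply x)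
    ((LinearEquiv.ofInjectiveEndo b hb).apply_symm_apply y)).symm

/-- a preserving map that moves a vector of `u ⊗ W` into `v ⊗ W` moves all of it there -/
theorem inN_meet {h : V ≃ₗ[F] V} (hh : InN pt h) {u v : U} {y : W} (hy : y ≠ 0) (hu : u ≠ 0)
    (hmem : h (pt u y) ∈ LinearMap.range (pt v)) (y' : W) : h (pt u y') ∈ LinearMap.range (pt v) := by
  obtain ⟨a, b, e⟩ := hh
  have hne : h (pt u y) ≠ 0 := fun h0 => hy (hF.pt_injective hu (by
    rw [h.injective (h0.trans (map_zero h).symm), map_zero]))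
  obtain ⟨p, hp⟩ := hmem
  by_cases hau : a u ∈ F ∙ v
  · obtain ⟨t, ht⟩ := Submodule.mem_span_singleton.1 hau
    exact ⟨t • b y', by rw [e, ← ht, map_smul (pt), LinearMap.smul_apply, map_smul]⟩
  exfalso
  have hnot : ∃ t, A v t = 0 ∧ A (a u) t ≠ 0 := by
    by_contra! hall
    rcases eq_or_ne v 0 with rfl | hv
    · rw [map_zero (pt), LinearMap.zero_apply] at hp
      exact hne hp.symm
    obtain ⟨v', hv'⟩ := hF.exists_partner hv
    refine hau (Submodule.mem_span_singleton.2 ⟨A (a u) v', ?_⟩)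
    refine sub_eq_zero.1 (hF.And.1 _ fun t => ?_)
    have h0 := hall (t - A v t • v') (by rw [map_sub, map_smul, hv', smul_eq_mul, mul_one, sub_self])
    rw [map_sub, map_smul, smul_eq_mul] at h0
    rw [map_sub, LinearMap.sub_apply, map_smul, LinearMap.smul_apply, smul_eq_mul]
    linear_combination -h0
  obtain ⟨t, h1, h2⟩ := hnot
  have := congrArg (hF.ev t) (hp.trans (e u y))
  rw [hF.ev_pt, hF.ev_pt, h1, zero_smul, eq_comm, smul_eq_zero] at this
  exact hne (by rw [e, this.resolve_left h2, map_zero])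

end Frame

/-! ### maps supported on one subspace `u ⊗ W` -/

/-- `z ↦ z + u ⊗ S(ev u z)` -/
noncomputable def Frame.rad (hF : Frame B A Q pt) (u : U) (S : W →ₗ[F] W) : V ≃ₗ[F] V where
  toFun z := z + pt u (S (hF.ev u z))
  map_add' z z' := by simp only [map_add]; abel
  map_smul' c z := by simp only [map_smul, smul_add, RingHom.id_apply]
  invFun z := z - pt u (S (hF.ev u z))
  left_inv z := by
    simp only [map_add, hF.ev_pt, hF.A_self, zero_smul, add_zero, add_sub_cancel_right]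
  right_inv z := by
    simp only [map_sub, hF.ev_pt, hF.A_self, zero_smul, sub_zero, sub_add_cancel]

namespace Frame

variable (hF : Frame B A Q pt)

theorem rad_apply (u : U) (S : W →ₗ[F] W) (z : V) : hF.rad u S z = z + pt u (S (hF.ev u z)) := rfl

theorem rad_add (u : U) (S S' : W →ₗ[F] W) : hF.rad u S * hF.rad u S' = hF.rad u (S + S') :=
  LinearEquiv.ext fun z => by
    simp only [LinearEquiv.mul_apply, rad_apply, map_add, hF.ev_pt, hF.A_self, zero_smul, add_zero, map_zero,
      LinearMap.add_apply]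
    abel

theorem rad_zero (u : U) : hF.rad u 0 = 1 := LinearEquiv.ext fun z => by simp [rad_apply]

theorem rad_inv (u : U) (S : W →ₗ[F] W) : (hF.rad u S)⁻¹ = hF.rad u (-S) :=
  inv_eq_of_mul_eq_one_right (by rw [rad_add, add_neg_cancel, rad_zero])

/-- the transvection of the first factor -/
noncomputable def lt (u : U) (c : F) : V ≃ₗ[F] V := hF.rad u (c • LinearMap.id)

theorem lt_apply (u : U) (c : F) (z : V) : hF.lt u c z = z + c • pt u (hF.ev u z) := by
  rw [lt, rad_apply, LinearMap.smul_apply, LinearMap.id_apply, map_smul]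

theorem lt_inv (u : U) (c : F) : (hF.lt u c)⁻¹ = hF.lt u (-c) := by
  rw [lt, lt, rad_inv, neg_smul]

theorem lt_pt (u : U) (c : F) (x : U) (y : W) : hF.lt u c (pt x y) = pt (Alt.tv hF.Aalt u c x) y := by
  rw [lt_apply, hF.ev_pt, Alt.tv_apply, map_smul, smul_smul, map_add (pt), LinearMap.add_apply, map_smul (pt),
    LinearMap.smul_apply]

theorem rad_iso {u : U} {S : W →ₗ[F] W} (hS : ∀ e e', pS Q (S e) e' = pS Q e (S e')) :
    hF.rad u S ∈ Alt.isoGroup B := fun z z' => by
  simp only [rad_apply, map_add, LinearMap.add_apply, hF.prod, hF.A_self, zero_mul, add_zero]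
  rw [hF.B_swap z' (pt u _), ← hF.pS_ev, ← hF.pS_ev, pS_symm (hF.ev u z') (S (hF.ev u z)), hS]
  ring

theorem lt_iso (u : U) (c : F) : hF.lt u c ∈ Alt.isoGroup B :=
  hF.rad_iso fun e e' => by simp

theorem lt_inN (u : U) (c : F) : InN pt (hF.lt u c) :=
  ⟨(Alt.tv hF.Aalt u c).toLinearMap, LinearMap.id, fun x y => hF.lt_pt u c x y⟩

end Frame

/-- an overgroup of the stabiliser of the decomposition -/
structure Over (B : LinearMap.BilinForm F V) (pt : U →ₗ[F] W →ₗ[F] V) (X : Subgroup (V ≃ₗ[F] V)) : Prop where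
  iso : ∀ g ∈ X, g ∈ Alt.isoGroup B
  mem : ∀ g, g ∈ Alt.isoGroup B → InN pt g → g ∈ X

/-- every transvection is in the group -/
def Done (hF : Frame B A Q pt) (X : Subgroup (V ≃ₗ[F] V)) : Prop := ∀ v : V, v ∈ centres hF.Balt X

variable {X : Subgroup (V ≃ₗ[F] V)}

theorem Over.lt_mem (hO : Over B pt X) (hF : Frame B A Q pt) (u : U) (c : F) : hF.lt u c ∈ X :=
  hO.mem _ (hF.lt_iso u c) (hF.lt_inN u c)

/-- isometries of the factors act by elements of the group -/
theorem Over.exists_lift (hO : Over B pt X) (hF : Frame B A Q pt) [FiniteDimensional F V] {a : U ≃ₗ[F] U}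
    {b : W ≃ₗ[F] W} (ha : a ∈ Alt.isoGroup A) (hb : b ∈ Quad.oG Q) :
    ∃ g : V ≃ₗ[F] V, g ∈ X ∧ InN pt g ∧ (∀ x y, g (pt x y) = pt (a x) (b y)) ∧
      ∀ u z, hF.ev (a u) (g z) = b (hF.ev u z) := by
  obtain ⟨g, hiso, hN, hg, hev⟩ := hF.exists_lift (a := a) (b := b) (μ := 1) (ν := 1) (fun x y => by rw [ha, one_mul])
    (fun x y => by rw [one_mul, pS_apply, pS_apply, Quad.polar_eq_of_mem hb]) (one_mul 1)
  exact ⟨g, hO.mem g hiso hN, hN, hg, fun u z => by rw [hev, one_smul]⟩

end Cfsg.Agent.ClassicalMax.SpTensor
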