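import Cfsg.Agent.Classical.TwoTrans

/-!
Words in `x(s) = [[1, s], [0, 1]]` and `y(s) = [[1, 0], [s N, 1]]` for an invertible operator `N` over a finite field of
odd order: a word with singular non-zero lower corner, or with zero lower corner and an upper corner away from the
identity.
-/

set_option autoImplicit false
set_option linter.unusedSectionVars false
set_option linter.style.haveILetI false

namespace Cfsg.Agent.ClassicalMax.SpTensor

open Matrix Polynomial
open Cfsg.Agent.RootSub.Dickson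
open scoped MatrixGroups

section Field

variable {K : Type*} [Field K]

/-- conjugation by `diag(1, μ)`, entrywise -/
def dconjF {μ : K} (hμ : μ ≠ 0) (g : SL(2, K)) : SL(2, K) :=
  ⟨!![g 0 0, g 0 1 / μ; μ * g 1 0, g 1 1], by
      rw [Matrix.det_fin_two_of]
      field_simp
      linear_combination det2 g⟩

theorem coe_dconjF {μ : K} (hμ : μ ≠ 0) (g : SL(2, K)) :
    ((dconjF hμ g : SL(2, K)) : Matrix (Fin 2) (Fin 2) K) = !![g 0 0, g 0 1 / μ; μ * g 1 0, g 1 1] := rfl

/-- conjugation by `diag(1, μ)` -/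
def dconj {μ : K} (hμ : μ ≠ 0) : SL(2, K) →* SL(2, K) :=
  MonoidHom.mk' (dconjF hμ) fun g h => by
    apply ext_entries <;>
      simp [coe_dconjF, Matrix.SpecialLinearGroup.coe_mul, Matrix.mul_apply, Fin.sum_univ_two] <;> field_simp

theorem coe_dconj {μ : K} (hμ : μ ≠ 0) (g : SL(2, K)) :
    ((dconj hμ g : SL(2, K)) : Matrix (Fin 2) (Fin 2) K) = !![g 0 0, g 0 1 / μ; μ * g 1 0, g 1 1] := rfl

/-- a group with at least 120 elements over a field of at most nine elements that contains `y(1)` -/
theorem exists_torus_of_card [Finite K] (hK : Nat.card K ≤ 9) (h3 : (3 : K) = 0) {μ : K} (hμ0 : μ ≠ 0)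
    (hμ1 : μ ≠ 1) (hμ2 : μ ≠ -1) {H : Subgroup SL(2, K)} (hl : lowR (1 : K) ∈ H)
    (hH : 120 ≤ Nat.card H) : ∃ g ∈ H, g 1 0 = 0 ∧ g 0 0 ≠ 1 ∧ g 0 0 ≠ -1 := by
  classical
  by_contra hc
  simp only [not_exists, not_and, not_not] at hc
  have hpm : ∀ g ∈ H, g 1 0 = 0 → g 0 0 = 1 ∨ g 0 0 = -1 := fun g hg h =>
    or_iff_not_imp_left.2 fun h1 => hc g hg h h1
  let S := transGroup H
  haveI : Finite SL(2, K) := inferInstance
  -- every element fixing the first line is plus or minus a translation
  let B : Set SL(2, K) := {g | g ∈ H ∧ g 1 0 = 0}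
  have hB : ∀ g ∈ B, g 0 0 * g 0 1 ∈ S := by
    rintro g ⟨hg, h10⟩
    have hd := det2 g
    rw [h10, mul_zero, sub_zero] at hd
    have h11 : g 1 1 = g 0 0 := by
      rcases hpm g hg h10 with h | h <;> rw [h] at hd ⊢
      · linear_combination hd
      · linear_combination -hd
    have hsq : g 0 0 * g 0 0 = 1 := by rw [h11] at hd; exact hd
    have h4 : (g * g) * (g * g) = upR (g 0 0 * g 0 1) := by
      apply ext_entries <;>
        simp [coe_upR, Matrix.SpecialLinearGroup.coe_mul, Matrix.mul_apply, Fin.sum_univ_two, h10, h11]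
      · linear_combination (g 0 0 * g 0 0 + 1) * hsq
      · linear_combination (4 * g 0 0 * g 0 1) * hsq + g 0 0 * g 0 1 * h3
      · linear_combination (g 0 0 * g 0 0 + 1) * hsq
    show upR _ ∈ H
    rw [← h4]
    exact mul_mem (mul_mem hg hg) (mul_mem hg hg)
  have hBcard : B.ncard ≤ 2 * Nat.card S := by
    let φ : B → Bool × S := fun g => (decide (g.1 0 0 = 1), ⟨_, hB g.1 g.2⟩)
    have hφ : Function.Injective φ := by
      rintro ⟨g, hg⟩ ⟨g', hg'⟩ h
      simp only [φ, Prod.mk.injEq, decide_eq_decide, Subtype.mk.injEq] at h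
      obtain ⟨h1, h2⟩ := h
      have h00 : g 0 0 = g' 0 0 := by
        rcases hpm g hg.1 hg.2 with a | a <;> rcases hpm g' hg'.1 hg'.2 with b | b
        · rw [a, b]
        · rw [a, h1.1 a]
        · rw [b, h1.2 b]
        · rw [a, b]
      have hne : g 0 0 ≠ 0 := fun h0 => by
        rcases hpm g hg.1 hg.2 with a | a <;> simp [a] at h0
      have h01 : g 0 1 = g' 0 1 := mul_left_cancel₀ hne (h2.trans (by rw [h00]))
      have e := det2 g
      have e' := det2 g'
      rw [hg.2, mul_zero, sub_zero] at e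
      rw [hg'.2, mul_zero, sub_zero, ← h00] at e'
      exact Subtype.ext (ext_entries h00 h01 (hg.2.trans hg'.2.symm) (mul_left_cancel₀ hne (e.trans e'.symm)))
    have := Nat.card_le_card_of_injective φ hφ
    rwa [Nat.card_coe_set_eq, Nat.card_prod, Nat.card_eq_fintype_card (α := Bool), Fintype.card_bool] at this
  -- the cosets of the stabiliser of the first line
  have hHcard : Nat.card H ≤ 10 * B.ncard := by
    let pt : H → Option K := fun g => if g.1 1 0 = 0 then none else some (g.1 0 0 / g.1 1 0)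
    have hsec : ∀ o : Option K, ∃ r : H, (∀ g : H, pt g = o → pt r = o) := fun o => by
      by_cases h : ∃ g, pt g = o
      · exact ⟨h.choose, fun _ _ => h.choose_spec⟩
      · exact ⟨1, fun g hg => absurd ⟨g, hg⟩ h⟩
    choose r hr using hsec
    have hin : ∀ g : H, ((r (pt g))⁻¹ * g : SL(2, K)) ∈ B := fun g => by
      refine ⟨mul_mem (inv_mem (r (pt g)).2) g.2, ?_⟩
      have h := hr (pt g) g rfl
      simp only [pt] at h
      simp only [pt, Subgroup.coe_inv, Matrix.SpecialLinearGroup.coe_mul, Matrix.SpecialLinearGroup.coe_inv,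
        Matrix.adjugate_fin_two, Matrix.mul_apply, Fin.sum_univ_two, Matrix.of_apply, Matrix.cons_val_zero,
        Matrix.cons_val_one]
      by_cases h0 : g.1 1 0 = 0
      · simp only [h0, if_true] at h ⊢
        by_cases h1 : (r none).1 1 0 = 0
        · rw [h1]; ring
        · simp [h1] at h
      · simp only [h0, if_false] at h ⊢
        set x := r (some (g.1 0 0 / g.1 1 0))
        by_cases h1 : x.1 1 0 = 0
        · simp [h1] at h
        · simp only [h1, if_false, Option.some.injEq] at h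
          field_simp at h
          linear_combination h
    let ψ : H → Option K × B := fun g => (pt g, ⟨_, hin g⟩)
    have hψ : Function.Injective ψ := fun g g' h => by
      simp only [ψ, Prod.mk.injEq, Subtype.mk.injEq] at h
      obtain ⟨h1, h2⟩ := h
      rw [h1] at h2
      exact Subtype.ext (mul_left_cancel h2)
    have := Nat.card_le_card_of_injective ψ hψ
    rw [Nat.card_prod, Nat.card_coe_set_eq, Finite.card_option] at this
    exact this.trans (Nat.mul_le_mul_right _ (by omega))
  have hdvd : Nat.card S ∣ Nat.card K := S.card_addSubgroup_dvd_card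
  have hpos : 0 < Nat.card K := Nat.card_pos
  have hle := Nat.le_of_dvd hpos hdvd
  have hStop : S = ⊤ := by
    refine AddSubgroup.eq_top_of_card_eq _ ?_
    obtain ⟨k, hk⟩ := hdvd
    rcases Nat.lt_or_ge k 2 with h | h
    · interval_cases k <;> omega
    · have := Nat.mul_le_mul_left (Nat.card S) h
      omega
  have hall : H = ⊤ := by
    have hu' : ∀ t, upR t ∈ H := fun t => show t ∈ S from hStop ▸ AddSubgroup.mem_top t
    refine eq_top_of_weyl hu' (γ := upR (-1) * lowR 1 * upR (-1))
      (mul_mem (mul_mem (hu' _) hl) (hu' _)) ?_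
    simp [coe_upR, coe_lowR, Matrix.SpecialLinearGroup.coe_mul, Matrix.mul_apply, Fin.sum_univ_two]
  have := hpm ⟨!![μ, 0; 0, μ⁻¹], by simp [Matrix.det_fin_two, hμ0]⟩ (hall ▸ Subgroup.mem_top _) rfl
  rcases this with h | h
  · exact hμ1 (by simpa using h)
  · exact hμ2 (by simpa using h)

variable {F : Type*} [Field F] [Finite F] [Algebra F K]

/-- an element with zero lower corner and upper corner outside the ground field -/
theorem exists_torus [FiniteDimensional F K] (h2 : (2 : F) ≠ 0) {μ : K}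
    (hgen : Algebra.adjoin F ({μ} : Set K) = ⊤) (hμ : ∀ κ : F, algebraMap F K κ ≠ μ) :
    ∃ g ∈ dicksonGroup F μ, g 1 0 = 0 ∧ ∀ κ : F, g 0 0 ≠ algebraMap F K κ := by
  classical
  haveI : Finite K := Module.finite_of_finite F
  have hμ0 : μ ≠ 0 := fun h => hμ 0 (by rw [h, map_zero])
  have hdiag : dicksonGroup F μ = ⊤ → ∃ g ∈ dicksonGroup F μ, g 1 0 = 0 ∧ ∀ κ : F, g 0 0 ≠ algebraMap F K κ :=
    fun h => ⟨⟨!![μ, 0; 0, μ⁻¹], by simp [Matrix.det_fin_two, hμ0]⟩, h ▸ Subgroup.mem_top _, rfl,
      fun κ e => hμ κ (by simpa using e.symm)⟩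
  by_cases h3 : Nat.card F = 3
  swap
  · exact hdiag (dicksonGroup_eq_top h2 h3 hμ0 hgen)
  letI := Fintype.ofFinite F
  letI := Fintype.ofFinite K
  have h2K : (2 : K) ≠ 0 := by
    rw [← map_ofNat (algebraMap F K) 2]; simpa using h2
  have h11 : (1 : F) ≠ -1 := fun h => h2 (by linear_combination h)
  have hthree : ∀ κ : F, κ = 0 ∨ κ = 1 ∨ κ = -1 := by
    have hu : ({0, 1, -1} : Finset F) = Finset.univ := by
      apply Finset.eq_univ_of_card
      rw [← Nat.card_eq_fintype_card, h3, Finset.card_eq_three]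
      exact ⟨0, 1, -1, zero_ne_one, by simp, h11, rfl⟩
    intro κ
    have := Finset.mem_univ κ
    rw [← hu] at this
    simpa using this
  have hclo : Subfield.closure ({μ} : Set K) = ⊤ := by
    refine eq_top_iff.2 fun x _ => ?_
    let S : Subalgebra F K :=
      { (Subfield.closure ({μ} : Set K)).toSubring with
        algebraMap_mem' := fun κ => by
          show algebraMap F K κ ∈ Subfield.closure ({μ} : Set K)
          rcases hthree κ with rfl | rfl | rfl
          · simp only [map_zero]; exact zero_mem _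
          · simp only [map_one]; exact one_mem _
          · simp only [map_neg, map_one]; exact neg_mem (one_mem _) }
    have : Algebra.adjoin F ({μ} : Set K) ≤ S :=
      Algebra.adjoin_le (Set.singleton_subset_iff.2 (Subfield.subset_closure rfl))
    exact this (hgen ▸ Algebra.mem_top)
  have hmap : ∀ g ∈ Subgroup.closure ({lowR 1, upR μ} : Set SL(2, K)), dconj hμ0 g ∈ dicksonGroup F μ := by
    intro g hg
    have hle : Subgroup.closure ({lowR 1, upR μ} : Set SL(2, K)) ≤ (dicksonGroup F μ).comap (dconj hμ0) := by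
      rw [Subgroup.closure_le]
      rintro _ (rfl | rfl)
      · rw [SetLike.mem_coe, Subgroup.mem_comap]
        rw [show dconj hμ0 (lowR 1) = lowR (algebraMap F K 1 * μ) from ext_entries (by simp [coe_dconj, coe_lowR])
          (by simp [coe_dconj, coe_lowR]) (by simp [coe_dconj, coe_lowR]) (by simp [coe_dconj, coe_lowR])]
        exact lowR_mem F μ 1
      · rw [SetLike.mem_coe, Subgroup.mem_comap]
        rw [show dconj hμ0 (upR μ) = upR (algebraMap F K 1) from ext_entries (by simp [coe_dconj, coe_upR])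
          (by simp [coe_dconj, coe_upR, hμ0]) (by simp [coe_dconj, coe_upR]) (by simp [coe_dconj, coe_upR])]
        exact upR_mem F μ 1
    exact hle hg
  rcases Cfsg.Agent.Classical.TwoTrans.main h2K μ hμ0 hclo with ⟨htop, -⟩ | ⟨h9, -, h120⟩
  · obtain ⟨D, hD0, hD1⟩ : ∃ D : SL(2, K), D 0 0 = μ ∧ D 1 0 = 0 :=
      ⟨⟨!![μ, 0; 0, μ⁻¹], by simp [Matrix.det_fin_two, hμ0]⟩, rfl, rfl⟩
    refine ⟨dconj hμ0 D,
      hmap _ (htop ▸ Subgroup.mem_top _), ?_, fun κ e => hμ κ ?_⟩
    · simp [coe_dconj, hD1]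
    · simpa [coe_dconj, hD0] using e.symm
  · have h30 : (3 : K) = 0 := by
      rw [← map_ofNat (algebraMap F K) 3]
      have : ((Fintype.card F : ℕ) : F) = 0 := Nat.cast_card_eq_zero F
      rw [← Nat.card_eq_fintype_card, h3] at this
      simp [show (3 : F) = 0 by exact_mod_cast this]
    obtain ⟨g, hg, hg0, hg1, hg2⟩ := exists_torus_of_card (by rw [Nat.card_eq_fintype_card, h9]) h30 hμ0
      (fun h => hμ 1 (by rw [h, map_one])) (fun h => hμ (-1) (by rw [h, map_neg, map_one]))
      (Subgroup.subset_closure (Or.inl rfl)) h120.ge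
    refine ⟨_, hmap g hg, by simp [coe_dconj, hg0], fun κ e => ?_⟩
    have hg00 : g 0 0 ≠ 0 := fun h => by
      have := det2 g
      simp [h, hg0] at this
    have e' : g 0 0 = algebraMap F K κ := by simpa [coe_dconj] using e
    rcases hthree κ with rfl | rfl | rfl
    · exact hg00 (by simpa using e')
    · exact hg1 (by simpa using e')
    · exact hg2 (by simpa using e')

end Field

section Operator

variable {F L : Type*} [Field F] [Finite F] [AddCommGroup L] [Module F L] [FiniteDimensional F L] [Nontrivial L]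

theorem aeval_of_eigen {N : Module.End F L} {μ : F} (h : ∀ p, N p = μ • p) (f : F[X]) :
    aeval N f = algebraMap F (Module.End F L) (f.eval μ) := by
  have : N = algebraMap F (Module.End F L) μ := LinearMap.ext fun p => by
    rw [h, Module.algebraMap_end_apply]
  rw [this, aeval_algebraMap_apply, coe_aeval_eq_eval]

/-- a word with singular non-zero lower corner, or zero lower corner and upper corner not the identity, not scalar
unless the operator is -/
theorem exists_word (h2 : (2 : F) ≠ 0) (N : Module.End F L) (hN : Function.Injective N) :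
    ∃ M ∈ wordGroup F, (aeval N (M 1 0) ≠ 0 ∧ ∃ p, p ≠ 0 ∧ aeval N (M 1 0) p = 0) ∨
      (aeval N (M 1 0) = 0 ∧ aeval N (M 0 0) ≠ 1 ∧
        ((∃ μ : F, ∀ p, N p = μ • p) ∨ ∀ κ : F, aeval N (M 0 0) ≠ algebraMap F (Module.End F L) κ)) := by
  classical
  by_cases hs : ∃ μ : F, ∀ p, N p = μ • p
  · obtain ⟨μ, hμ⟩ := hs
    have hμ0 : μ ≠ 0 := fun h => by
      obtain ⟨p, hp⟩ := exists_ne (0 : L)
      exact hp (hN (by rw [hμ, h, zero_smul, map_zero]))
    set w : SL(2, F[X]) := upR (C (-μ⁻¹)) * lowR (C (1 : F) * X) * upR (C (-μ⁻¹))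
    have hw : w ∈ wordGroup F :=
      mul_mem (mul_mem (upR_mem F _ _) (lowR_mem F _ _)) (upR_mem F _ _)
    refine ⟨w * w, mul_mem hw hw, Or.inr ⟨?_, ?_, Or.inl ⟨μ, hμ⟩⟩⟩
    · rw [aeval_of_eigen hμ, show eval μ ((w * w : SL(2, F[X])) 1 0) = 0 by
        simp [w, coe_upR, coe_lowR, Matrix.SpecialLinearGroup.coe_mul, Matrix.mul_apply, Fin.sum_univ_two]
        field_simp
        ring, map_zero]
    · rw [aeval_of_eigen hμ, show (1 : Module.End F L) = algebraMap F _ 1 from (map_one _).symm]
      refine fun e => h2 ?_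
      have e' := (algebraMap F (Module.End F L)).injective e
      simp [w, coe_upR, coe_lowR, Matrix.SpecialLinearGroup.coe_mul, Matrix.mul_apply, Fin.sum_univ_two] at e'
      field_simp at e'
      linear_combination -e'
  by_cases he : ∃ (μ : F) (p : L), p ≠ 0 ∧ N p = μ • p
  · obtain ⟨μ, p, hp, hpμ⟩ := he
    have hμ0 : μ ≠ 0 := fun h => hp (hN (by rw [hpμ, h, zero_smul, map_zero]))
    obtain ⟨c, hc0, hc⟩ : ∃ c : F, c ≠ 0 ∧ c ≠ -μ := by
      by_cases h : (1 : F) = -μ
      · exact ⟨-1, neg_ne_zero.2 one_ne_zero, fun e => h2 (by linear_combination h - e)⟩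
      · exact ⟨1, one_ne_zero, h⟩
    have hd0 : -μ - c ≠ 0 := fun h => hc (by linear_combination -h)
    set a := c⁻¹
    set b := (-μ - c)⁻¹
    set w : SL(2, F[X]) := lowR (C b * X) * upR (C (1 : F)) * lowR (C a * X)
    have hw : w ∈ wordGroup F :=
      mul_mem (mul_mem (lowR_mem F _ _) (upR_mem F _ _)) (lowR_mem F _ _)
    have hab : a + b = a * b * (-μ) := by
      simp only [a, b]
      field_simp
      ring
    have hM : w 1 0 = C (a * b) * (X * (X - C μ)) := by
      have hab' : C a + C b = C a * C b * (-C μ) := by rw [← C_add, hab, C_mul, C_mul, C_neg]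
      simp [w, coe_upR, coe_lowR, Matrix.SpecialLinearGroup.coe_mul, Matrix.mul_apply, Fin.sum_univ_two]
      linear_combination (X : F[X]) * hab'
    have hev : ∀ z, aeval N (w 1 0) z = (a * b) • N (N z - μ • z) := fun z => by
      rw [hM, map_mul (aeval N), map_mul (aeval N), aeval_C, map_sub, aeval_X, aeval_C, Module.End.mul_apply,
        Module.End.mul_apply, LinearMap.sub_apply, Module.algebraMap_end_apply, Module.algebraMap_end_apply]
    refine ⟨w, hw, Or.inl ⟨fun h0 => hs ⟨μ, fun z => ?_⟩, p, hp, by rw [hev, hpμ, sub_self, map_zero, smul_zero]⟩⟩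
    have := hev z
    rw [h0, LinearMap.zero_apply, eq_comm, smul_eq_zero] at this
    rcases this with h | h
    · exact absurd h (mul_ne_zero (inv_ne_zero hc0) (inv_ne_zero hd0))
    · exact sub_eq_zero.1 (hN (h.trans (map_zero N).symm))
  -- an irreducible factor of the minimal polynomial
  have hint : IsIntegral F N := Algebra.IsIntegral.isIntegral N
  obtain ⟨f, hf, hfdvd⟩ := WfDvdMonoid.exists_irreducible_factor (minpoly.not_isUnit F N) (minpoly.ne_zero hint)
  obtain ⟨p, hp, hpf⟩ : ∃ p : L, p ≠ 0 ∧ aeval N f p = 0 := by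
    obtain ⟨g, hg⟩ := hfdvd
    have hg0 : g ≠ 0 := fun h => minpoly.ne_zero hint (by rw [hg, h, mul_zero])
    have hne : aeval N g ≠ 0 := fun h => by
      have h1 := Polynomial.natDegree_le_of_dvd (minpoly.dvd F N h) hg0
      rw [hg, Polynomial.natDegree_mul hf.ne_zero hg0] at h1
      have := hf.natDegree_pos
      omega
    obtain ⟨z, hz⟩ : ∃ z, aeval N g z ≠ 0 := by
      by_contra h
      push Not at h
      exact hne (LinearMap.ext h)
    refine ⟨aeval N g z, hz, ?_⟩
    rw [← Module.End.mul_apply, ← map_mul, ← hg, minpoly.aeval, LinearMap.zero_apply]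
  haveI : Fact (Irreducible f) := ⟨hf⟩
  haveI : FiniteDimensional F (AdjoinRoot f) := (AdjoinRoot.powerBasis hf.ne_zero).finite
  obtain ⟨g, hg, hg0, hgκ⟩ := exists_torus h2 (AdjoinRoot.adjoinRoot_eq_top (f := f)) (fun κ e => he ⟨κ, p, hp, by
    have h1 : AdjoinRoot.mk f (X - C κ) = 0 := by
      rw [map_sub, AdjoinRoot.mk_X, AdjoinRoot.mk_C, ← AdjoinRoot.algebraMap_eq, e, sub_self]
    obtain ⟨r, hr⟩ := AdjoinRoot.mk_eq_zero.1 h1
    have h2' := congrArg (fun q => aeval N q p) hr
    simp only [mul_comm f r, map_mul, Module.End.mul_apply, hpf, map_zero, map_sub, aeval_X, aeval_C,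
      LinearMap.sub_apply, Module.algebraMap_end_apply, sub_eq_zero] at h2'
    exact h2'⟩)
  obtain ⟨M, hM, hMg⟩ := Cfsg.Agent.RootSub.Dickson.exists_word F hg
  have hval : ∀ i j, AdjoinRoot.mk f (M i j) = g i j := fun i j => by
    rw [← hMg]
    simp [Matrix.SpecialLinearGroup.map_apply_coe, RingHom.mapMatrix_apply, AdjoinRoot.aeval_eq]
  refine ⟨M, hM, ?_⟩
  by_cases hc : aeval N (M 1 0) = 0
  swap
  · refine Or.inl ⟨hc, p, hp, ?_⟩
    obtain ⟨e, he'⟩ := AdjoinRoot.mk_eq_zero.1 ((hval 1 0).trans hg0)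
    rw [he', mul_comm f e, map_mul, Module.End.mul_apply, hpf, map_zero]
  have hkey : ∀ κ : F, aeval N (M 0 0) ≠ algebraMap F (Module.End F L) κ := fun κ e => by
    refine hgκ κ ?_
    have h1 : minpoly F N ∣ M 0 0 - C κ := minpoly.dvd F N (by rw [map_sub, aeval_C, e, sub_self])
    have h2' := AdjoinRoot.mk_eq_zero.2 (hfdvd.trans h1)
    rw [map_sub, sub_eq_zero, hval, AdjoinRoot.mk_C, ← AdjoinRoot.algebraMap_eq] at h2'
    exact h2'
  exact Or.inr ⟨hc, fun e => hkey 1 (by rw [e, map_one]), Or.inr hkey⟩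

end Operator

end Cfsg.Agent.ClassicalMax.SpTensor
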