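import Cfsg.Agent.ClassicalMax.SpTensor.Stab
import Cfsg.Agent.ClassicalMax.SpTensor.Word

/-!
An overgroup of the stabiliser of a decomposition `Sp ⊗ O`, with first factor of dimension at least four, either
preserves the decomposition or contains every transvection.
-/

set_option autoImplicit false
set_option linter.unusedSectionVars false
set_option linter.style.haveILetI false

namespace Cfsg.Agent.ClassicalMax.SpTensor

open Module QuadraticMap Cfsg.Agent.Classical Cfsg.Agent.ClassicalMax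
open Cfsg.Agent.RootSub.Dickson (upR lowR wordGroup coe_upR coe_lowR upR_inv lowR_inv)
open Cfsg.Agent.ClassicalMax.SpTwo (pS pS_apply pS_symm pS_self q_add q_smul)
open scoped MatrixGroups Polynomial

variable {F U W V : Type*} [Field F] [Finite F] [AddCommGroup U] [Module F U] [AddCommGroup W] [Module F W]
  [AddCommGroup V] [Module F V] [FiniteDimensional F U] [FiniteDimensional F W] [FiniteDimensional F V]
  {B : LinearMap.BilinForm F V} {A : LinearMap.BilinForm F U} {Q : QuadraticForm F W} {pt : U →ₗ[F] W →ₗ[F] V}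
  {X : Subgroup (V ≃ₗ[F] V)}

/-- the dimension of the intersection of the image of `u ⊗ W` with `v ⊗ W` -/
noncomputable def dd (pt : U →ₗ[F] W →ₗ[F] V) (g : V ≃ₗ[F] V) (u v : U) : ℕ :=
  finrank F ↥((LinearMap.range (pt u)).map g.toLinearMap ⊓ LinearMap.range (pt v))

theorem finrank_comap_pure {E : Type*} [AddCommGroup E] [Module F E] {f : W →ₗ[F] E} (hf : Function.Injective f)
    (S : Submodule F E) : finrank F (S.comap f) = finrank F ↥(S ⊓ LinearMap.range f) := by
  exact (Submodule.equivMapOfInjective f hf (S.comap f)).finrank_eq.trans (by rw [Submodule.map_comap_eq, inf_comm])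

/-- the word `M` in the two root groups is realised by an element of the group -/
def Rep (hF : Frame B A Q pt) (X : Subgroup (V ≃ₗ[F] V)) (v : U) (L : Submodule F W) (Lp : Submodule F W)
    (Cs : Submodule F V) (N : Module.End F Lp) (M : SL(2, F[X])) : Prop :=
  ∃ h ∈ X, (∀ l ∈ L, h (pt v l) = pt v l) ∧ (∀ z, h z - z ∈ LinearMap.range (pt v) ⊔ Cs) ∧
    ∀ (p r : Lp), ∀ c ∈ Cs, hF.ev v c = r → ∃ c' ∈ Cs,
      hF.ev v c' = ((Polynomial.aeval N (M 1 0) p + Polynomial.aeval N (M 1 1) r : Lp) : W) ∧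
      h (pt v p + c) = pt v ((Polynomial.aeval N (M 0 0) p + Polynomial.aeval N (M 0 1) r : Lp) : W) + c'

variable (hO : Over B pt X) (hF : Frame B A Q pt)
include hO hF

omit hO in
theorem exists_sep {v p : U} (h : p ∉ F ∙ v) : ∃ t, A v t = 0 ∧ A p t ≠ 0 := by
  by_contra! hall
  rcases eq_or_ne v 0 with rfl | hv
  · refine h ?_
    rw [hF.And.1 p fun t => hall t (by simp)]
    exact Submodule.zero_mem _
  obtain ⟨v', hv'⟩ := hF.exists_partner hv
  refine h (Submodule.mem_span_singleton.2 ⟨A p v', (sub_eq_zero.1 (hF.And.1 _ fun t => ?_)).symm⟩)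
  have h0 := hall (t - A v t • v') (by rw [map_sub, map_smul, hv', smul_eq_mul, mul_one, sub_self])
  rw [map_sub, map_smul, smul_eq_mul] at h0
  rw [map_sub, LinearMap.sub_apply, map_smul, LinearMap.smul_apply, smul_eq_mul]
  linear_combination h0

omit hO in
/-- a preserving map fixing a line of the first factor everywhere is a scalar there -/
theorem scalar_of_forall (a : U →ₗ[F] U) (h : ∀ x, a x ∈ F ∙ x) : ∃ l : F, ∀ x, a x = l • x := by
  haveI := hF.nontrivialU
  obtain ⟨x₀, hx₀⟩ := exists_ne (0 : U)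
  obtain ⟨l, hl⟩ := Submodule.mem_span_singleton.1 (h x₀)
  refine ⟨l, fun x => ?_⟩
  obtain ⟨m, hm⟩ := Submodule.mem_span_singleton.1 (h x)
  by_cases hdep : x ∈ F ∙ x₀
  · obtain ⟨s, rfl⟩ := Submodule.mem_span_singleton.1 hdep
    rw [map_smul, ← hl, smul_comm]
  obtain ⟨n, hn⟩ := Submodule.mem_span_singleton.1 (h (x + x₀))
  rw [map_add, ← hl, ← hm] at hn
  have := LinearIndependent.pair_iff.1 ((LinearIndependent.pair_iff' hx₀).2 fun c hc =>
    hdep (Submodule.mem_span_singleton.2 ⟨c, hc⟩)) (n - l) (n - m) (by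
      rw [sub_smul, sub_smul, sub_add_sub_comm, ← smul_add, add_comm x₀ x, hn, add_comm (l • x₀), sub_self])
  rw [← hm, show m = l by linear_combination this.1 - this.2]

/-- a preserving conjugate of a transvection of the first factor acts on the second factor only -/
theorem right_form (hD : ¬ Done hF X) {g : V ≃ₗ[F] V} (hg : g ∈ X) (hgN : ¬ InN pt g) {u : U} (hu : u ≠ 0)
    (hk : InN pt (g * hF.lt u 1 * g⁻¹)) :
    ∃ β : W →ₗ[F] W, ∀ x y, (g * hF.lt u 1 * g⁻¹) (pt x y) = pt x (β y) := by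
  set k := g * hF.lt u 1 * g⁻¹ with hkdef
  have hkz : ∀ z, k z = z + g (pt u (hF.ev u (g⁻¹ z))) := fun z => by
    rw [hkdef, LinearEquiv.mul_apply, LinearEquiv.mul_apply, hF.lt_apply, one_smul, map_add, Alt.apply_inv_self]
  have hsq : ∀ z, k (k z) + z = (2 : F) • k z := fun z => by
    rw [hkz (k z)]
    nth_rewrite 2 [hkz z]
    rw [map_add g⁻¹, Alt.inv_apply_self, map_add (hF.ev u), hF.ev_pt, hF.A_self, zero_smul, add_zero, hkz z, two_smul]
    abel
  obtain ⟨a, b, e⟩ := hk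
  by_cases ha : ∀ x, a x ∈ F ∙ x
  · obtain ⟨l, hl⟩ := scalar_of_forall hF a ha
    exact ⟨l • b, fun x y => by rw [e, hl, map_smul pt, LinearMap.smul_apply, LinearMap.smul_apply, map_smul]⟩
  exfalso
  push Not at ha
  obtain ⟨x₀, hx₀⟩ := ha
  have hx00 : x₀ ≠ 0 := fun h => hx₀ (by rw [h, map_zero]; exact Submodule.zero_mem _)
  obtain ⟨t, hxt, hat⟩ := exists_sep hF hx₀
  have hbinj : ∀ y, b y = 0 → y = 0 := fun y hy => hF.pt_injective hx00 (k.injective (by
    rw [e, hy, map_zero, map_zero, map_zero]))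
  set κ := A (a (a x₀)) t
  set τ := A (a x₀) t with hτ
  have hrel : ∀ y, κ • b y = (2 * τ) • y := fun y => by
    have h1 := congrArg (hF.ev t) (hsq (pt x₀ y))
    rw [e, e, map_add, map_smul, hF.ev_pt, hF.ev_pt, hF.ev_pt, hxt, zero_smul, add_zero, smul_smul] at h1
    refine sub_eq_zero.1 (hbinj _ ?_)
    rw [map_sub, map_smul, map_smul, h1, sub_self]
  have hκ : κ ≠ 0 := fun h0 => by
    haveI := hF.nontrivialW
    obtain ⟨y, hy⟩ := exists_ne (0 : W)
    have := hrel y
    rw [h0, zero_smul, eq_comm, smul_eq_zero] at this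
    exact this.elim (mul_ne_zero hF.two hat) hy
  set a' := (2 * τ / κ) • a with ha'
  have e' : ∀ x y, k (pt x y) = pt (a' x) y := fun x y => by
    rw [e, ha', LinearMap.smul_apply, map_smul pt, LinearMap.smul_apply, ← map_smul,
      show b y = (2 * τ / κ) • y by rw [div_eq_inv_mul, mul_smul, ← hrel, inv_smul_smul₀ hκ]]
  obtain ⟨x, hx⟩ : ∃ x, a' x ≠ x := by
    by_contra! hall
    have hk1 : k = 1 := LinearEquiv.toLinearMap_injective (hF.ext_pure fun x y => by
      show k (pt x y) = pt x y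
      rw [e', hall])
    obtain ⟨u', hu'⟩ := hF.exists_partner hu
    haveI := hF.nontrivialW
    obtain ⟨y, hy⟩ := exists_ne (0 : W)
    have h1 := hkz (g (pt u' y))
    rw [hk1, Alt.inv_apply_self, hF.ev_pt, hF.A_swap u u', hu'] at h1
    have h2 : g (pt u ((-1 : F) • y)) = g 0 := by
      rw [map_zero g]
      exact (left_eq_add.1 h1)
    have := hF.pt_injective hu ((g.injective h2).trans (map_zero (pt u)).symm)
    rw [neg_one_smul, neg_eq_zero] at this
    exact hy this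
  set w := a' x - x with hw
  have hw0 : w ≠ 0 := sub_ne_zero.2 hx
  have hle : LinearMap.range (pt w) ≤ (LinearMap.range (pt u)).map g.toLinearMap := by
    rintro _ ⟨y, rfl⟩
    refine ⟨pt u (hF.ev u (g⁻¹ (pt x y))), ⟨_, rfl⟩, ?_⟩
    have := hkz (pt x y)
    rw [e'] at this
    rw [hw, map_sub pt, LinearMap.sub_apply, this, LinearEquiv.coe_coe]
    abel
  have heq := Submodule.eq_of_le_of_finrank_eq hle (by
    rw [hF.finrank_R hw0, LinearEquiv.finrank_map_eq, hF.finrank_R hu])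
  exact hgN (hO.maps_inN hF hD hu hw0 hg fun y => heq ▸ Submodule.mem_map_of_mem ⟨y, rfl⟩)

omit hO in
theorem dd_inv (g : V ≃ₗ[F] V) (u v : U) : dd pt g⁻¹ v u = dd pt g u v := by
  unfold dd
  rw [← LinearEquiv.finrank_map_eq g ((LinearMap.range (pt v)).map (g⁻¹).toLinearMap ⊓ LinearMap.range (pt u))]
  rw [Submodule.map_inf _ g.injective, ← Submodule.map_comp,
    show g.toLinearMap ∘ₗ (g⁻¹).toLinearMap = LinearMap.id from LinearMap.ext (Alt.apply_inv_self g),
    Submodule.map_id, inf_comm]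

omit hO in
/-- the image of `u ⊗ W` is totally isotropic -/
theorem iso_image {g : V ≃ₗ[F] V} (hg : g ∈ Alt.isoGroup B) (u : U) {z z' : V}
    (hz : z ∈ (LinearMap.range (pt u)).map g.toLinearMap) (hz' : z' ∈ (LinearMap.range (pt u)).map g.toLinearMap) :
    B z z' = 0 := by
  obtain ⟨_, ⟨y, rfl⟩, rfl⟩ := hz
  obtain ⟨_, ⟨y', rfl⟩, rfl⟩ := hz'
  rw [LinearEquiv.coe_coe, hg, hF.prod, hF.A_self, zero_mul]

/-- when a transvection of the first factor fixes the image, a further element meets it in more -/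
theorem tc_bigger (hD : ¬ Done hF X) {g : V ≃ₗ[F] V} (hg : g ∈ X) (hgN : ¬ InN pt g) {u v : U} (hu : u ≠ 0)
    (hv : v ≠ 0) (hTC : ∀ y, hF.lt v 1 (g (pt u y)) ∈ (LinearMap.range (pt u)).map g.toLinearMap) :
    ∃ g'' ∈ X, ¬ InN pt g'' ∧ dd pt g u v < dd pt g'' u u := by
  classical
  set T := hF.lt v 1 with hT
  set C := (LinearMap.range (pt u)).map g.toLinearMap with hC
  have hgi : ¬ InN pt g⁻¹ := fun h => hgN (by simpa using hF.inN_inv h)
  have hg'X : g⁻¹ * T * g ∈ X := mul_mem (mul_mem (inv_mem hg) (hO.lt_mem hF v 1)) hg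
  have hg'N : InN pt (g⁻¹ * T * g) := hO.stab_inN hF hD hu hg'X fun y => by
    obtain ⟨z, hz, e⟩ := hTC y
    rw [LinearEquiv.mul_apply, LinearEquiv.mul_apply, ← e, LinearEquiv.coe_coe, Alt.inv_apply_self]
    exact hz
  obtain ⟨β', hβ'⟩ := right_form hO hF hD (inv_mem hg) hgi hv (by rw [inv_inv]; exact hg'N)
  rw [inv_inv] at hβ'
  have hcomm : (g⁻¹ * T * g) * hF.lt u 1 = hF.lt u 1 * (g⁻¹ * T * g) :=
    LinearEquiv.toLinearMap_injective (hF.ext_pure fun x y => by
      show ((g⁻¹ * T * g) * hF.lt u 1) (pt x y) = (hF.lt u 1 * (g⁻¹ * T * g)) (pt x y)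
      rw [LinearEquiv.mul_apply, LinearEquiv.mul_apply (f := hF.lt u 1), hF.lt_pt, hβ', hβ', hF.lt_pt])
  set k := g * hF.lt u 1 * g⁻¹ with hk
  have hTk : T * k = k * T := by
    calc T * k = g * ((g⁻¹ * T * g) * hF.lt u 1) * g⁻¹ := by rw [hk]; group
      _ = g * (hF.lt u 1 * (g⁻¹ * T * g)) * g⁻¹ := by rw [hcomm]
      _ = k * T := by rw [hk]; group
  have hkX : k ∈ X := mul_mem (mul_mem hg (hO.lt_mem hF u 1)) (inv_mem hg)
  obtain ⟨v'', hv''⟩ : ∃ v'', A v'' v = 1 := by
    obtain ⟨v', hv'⟩ := hF.exists_partner hv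
    exact ⟨-v', by rw [map_neg, LinearMap.neg_apply, hF.A_swap v v', hv', neg_neg]⟩
  obtain ⟨β, hβ⟩ := right_form hO hF hD hg hgN hu (hO.stab_inN hF hD hv hkX fun p => by
    have h1 : T (pt v'' p) = pt v'' p + pt v p := by
      rw [hT, hF.lt_apply, one_smul, hF.ev_pt, hv'', one_smul]
    have h2 := LinearEquiv.congr_fun hTk (pt v'' p)
    change T (k (pt v'' p)) = k (T (pt v'' p)) at h2
    rw [h1, map_add, hT, hF.lt_apply, one_smul, add_right_inj] at h2
    exact ⟨_, h2⟩)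
  have hkz : ∀ z, k z = z + g (pt u (hF.ev u (g⁻¹ z))) := fun z => by
    rw [hk, LinearEquiv.mul_apply, LinearEquiv.mul_apply, hF.lt_apply, one_smul, map_add, Alt.apply_inv_self]
  set L' := LinearMap.range (β - LinearMap.id) with hL'
  have hmem : ∀ x, ∀ l ∈ L', pt x l ∈ C := by
    rintro x _ ⟨y, rfl⟩
    refine ⟨pt u (hF.ev u (g⁻¹ (pt x y))), ⟨_, rfl⟩, ?_⟩
    have := hkz (pt x y)
    rw [← hk] at hβ
    rw [hβ] at this
    rw [LinearMap.sub_apply, LinearMap.id_apply, map_sub, this, LinearEquiv.coe_coe]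
    abel
  have hev : ∀ t, ∀ z ∈ C, hF.ev t z ∈ L' := by
    intro t z hz
    obtain ⟨_, ⟨p, rfl⟩, rfl⟩ := hz
    obtain ⟨u', hu'⟩ := hF.exists_partner hu
    have hp : g (pt u p) = k (g (pt (-u') p)) - g (pt (-u') p) := by
      have hneg : A (-u') u = 1 := by rw [map_neg, LinearMap.neg_apply, hF.A_swap u u', hu', neg_neg]
      rw [hkz, Alt.inv_apply_self, hF.ev_pt, hneg, one_smul, add_sub_cancel_left]
    have hall : L'.mkQ ∘ₗ hF.ev t ∘ₗ (k.toLinearMap - LinearMap.id) = 0 := hF.ext_pure fun x y => by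
      show L'.mkQ (hF.ev t (k (pt x y) - pt x y)) = 0
      rw [show k (pt x y) = pt x (β y) from hβ x y, ← map_sub, hF.ev_pt, Submodule.mkQ_apply,
        Submodule.Quotient.mk_eq_zero]
      exact L'.smul_mem _ ⟨y, rfl⟩
    have h0 := LinearMap.congr_fun hall (g (pt (-u') p))
    rw [LinearEquiv.coe_coe, hp]
    exact (Submodule.Quotient.mk_eq_zero L').1 h0
  have hsing : ∀ l ∈ L', ∀ l' ∈ L', pS Q l l' = 0 := fun l hl l' hl' => by
    obtain ⟨u', hu'⟩ := hF.exists_partner hu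
    have := iso_image hF (hO.iso g hg) u (hmem u l hl) (hmem u' l' hl')
    rwa [hF.prod, hu', one_mul] at this
  have hdd : dd pt g u v = finrank F L' := by
    unfold dd
    rw [← hC, ← finrank_comap_pure (hF.pt_injective hv) C]
    refine congrArg (fun S : Submodule F W => finrank F S) (le_antisymm (fun l hl => ?_) fun l hl => hmem v l hl)
    obtain ⟨v', hv'⟩ := hF.exists_partner hv
    have := hev v' _ hl
    rwa [hF.ev_pt, hv', one_smul] at this
  haveI := hF.nontrivialW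
  obtain ⟨l₀, hl₀, hl₀0⟩ : ∃ l ∈ L', l ≠ 0 := by
    refine Submodule.exists_mem_ne_zero_of_ne_bot fun h0 => ?_
    obtain ⟨y, hy⟩ := exists_ne (0 : W)
    refine hy (hF.pt_injective hu (g.injective ?_))
    rw [map_zero (pt u), map_zero g]
    refine hF.eq_zero_of_ev fun t => ?_
    have := hev t (g (pt u y)) ⟨_, ⟨y, rfl⟩, rfl⟩
    rw [h0] at this
    exact (Submodule.mem_bot F).1 this
  have hQl₀ : Q l₀ = 0 :=
    (mul_eq_zero.1 (show (2 : F) * Q l₀ = 0 by rw [← pS_self]; exact hsing l₀ hl₀ l₀ hl₀)).resolve_left hF.two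
  -- the range has dimension at least two
  have hl2 : 2 ≤ finrank F L' := by
    by_contra hlt
    have hspan : L' ≤ F ∙ l₀ :=
      (Submodule.eq_of_le_of_finrank_le ((Submodule.span_singleton_le_iff_mem l₀ L').2 hl₀)
        (by rw [finrank_span_singleton hl₀0]; omega)).ge
    obtain ⟨x, t, -, -, hxt⟩ := hF.exists_plane hu
    have hiso : ∀ y y', pS Q (β y) (β y') = pS Q y y' := fun y y' => by
      have := hO.iso k hkX (pt x y) (pt t y')
      rwa [show k (pt x y) = _ from hβ x y, show k (pt t y') = _ from hβ t y', hF.prod, hF.prod, hxt, one_mul,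
        one_mul] at this
    have hy0 : ∀ y, pS Q l₀ y ≠ 0 → β y = y := fun y hy => by
      obtain ⟨τ, hτ⟩ := Submodule.mem_span_singleton.1 (hspan ⟨y, rfl⟩ : (β - (LinearMap.id : W →ₗ[F] W)) y ∈ F ∙ l₀)
      have hβy : β y = y + τ • l₀ := by rw [hτ, LinearMap.sub_apply, LinearMap.id_apply, add_sub_cancel]
      have h1 := hiso y y
      rw [hβy] at h1
      simp only [map_add, LinearMap.add_apply, map_smul, LinearMap.smul_apply, smul_eq_mul, pS_symm y l₀, pS_self l₀,
        hQl₀, mul_zero, add_zero] at h1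
      have : τ * pS Q l₀ y = 0 := mul_left_cancel₀ hF.two (by linear_combination h1)
      rw [hβy, (mul_eq_zero.1 this).resolve_right hy, zero_smul, add_zero]
    obtain ⟨y₁, hy₁⟩ : ∃ y, pS Q l₀ y ≠ 0 := by
      by_contra! h; exact hl₀0 (hF.eq_zero_of_pS h)
    obtain ⟨y, hy⟩ := hl₀
    refine hl₀0 ?_
    rw [← hy, LinearMap.sub_apply, LinearMap.id_apply, sub_eq_zero]
    by_cases h : pS Q l₀ y = 0
    · have := hy0 (y + y₁) (by rw [map_add, h, zero_add]; exact hy₁)
      rw [map_add, hy0 y₁ hy₁] at this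
      exact add_right_cancel this
    · exact hy0 y h
  -- a reflection of the second factor
  obtain ⟨t₀, hlt₀, hQt₀⟩ := hF.exists_partnerW hl₀0 hQl₀
  set c := t₀ + l₀ with hc
  have htl : pS Q t₀ l₀ = 1 := (pS_symm _ _).trans hlt₀
  have hQc : Q c = 1 := by rw [hc, q_add, hQt₀, hQl₀, htl]; ring
  have hQc0 : Q c ≠ 0 := by rw [hQc]; exact one_ne_zero
  obtain ⟨R, hR, -, hRp, -⟩ := hO.exists_lift hF (a := 1) (one_mem _) (Quad.refl_mem hQc0)
  set g'' := g⁻¹ * R * g with hg''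
  set L'' := L' ⊓ LinearMap.ker (pS Q c) with hL''
  have hL''dim : finrank F L' ≤ finrank F L'' + 1 := SpTwo.Over.finrank_inf_ker L' (pS Q c)
  obtain ⟨x, t, -, -, hxt⟩ := hF.exists_plane hu
  obtain ⟨w, w', hwx, hwt, hwx', hwt', hww⟩ :
      ∃ w w', A w x = 0 ∧ A w t = 0 ∧ A w' x = 0 ∧ A w' t = 0 ∧ A w w' = 1 := by
    obtain ⟨w, hw, hw0⟩ : ∃ w ∈ LinearMap.ker (A x) ⊓ LinearMap.ker (A t), w ≠ 0 := by
      refine Submodule.exists_mem_ne_zero_of_ne_bot fun h0 => ?_
      have e1 := SpTwo.Over.finrank_inf_ker (⊤ : Submodule F U) (A x)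
      have e2 := SpTwo.Over.finrank_inf_ker (⊤ ⊓ LinearMap.ker (A x)) (A t)
      rw [top_inf_eq] at e1 e2
      rw [h0, finrank_bot] at e2
      rw [finrank_top] at e1
      have := hF.dimU
      omega
    obtain ⟨w₀, hw₀⟩ := hF.exists_partner hw0
    have h1 : A w x = 0 := hF.A_perp_symm hw.1
    have h2 : A w t = 0 := hF.A_perp_symm hw.2
    refine ⟨w, w₀ - A x w₀ • t + A t w₀ • x, h1, h2, ?_, ?_, ?_⟩
    · simp only [map_add, map_sub, map_smul, LinearMap.add_apply, LinearMap.sub_apply, LinearMap.smul_apply,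
        smul_eq_mul, hF.A_self, hF.A_swap x t, hxt, hF.A_swap x w₀]
      ring
    · simp only [map_add, map_sub, map_smul, LinearMap.add_apply, LinearMap.sub_apply, LinearMap.smul_apply,
        smul_eq_mul, hF.A_self, hxt, hF.A_swap t w₀]
      ring
    · simp only [map_add, map_sub, map_smul, smul_eq_mul, h1, h2, hw₀]
      ring
  let Ψ : (L'' × L'' × L'') →ₗ[F] V := (pt x ∘ₗ L''.subtype).coprod
    ((pt t ∘ₗ L''.subtype).coprod (pt w ∘ₗ L''.subtype))
  have hΨ : ∀ a : L'' × L'' × L'', Ψ a = pt x a.1 + (pt t a.2.1 + pt w a.2.2) := fun a => rfl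
  have hΨinj : Function.Injective Ψ := (injective_iff_map_eq_zero Ψ).2 fun a ha => by
    rw [hΨ] at ha
    have e1 := congrArg (hF.ev t) ha
    have e2 := congrArg (hF.ev x) ha
    have e3 := congrArg (hF.ev w') ha
    simp only [map_add, hF.ev_pt, hF.A_self, hxt, hF.A_swap x t, hwt, hwx, hF.A_swap w' x, hF.A_swap w' t, hwx', hwt',
      hww, neg_zero, neg_smul, one_smul, zero_smul, add_zero, zero_add, map_zero, neg_eq_zero] at e1 e2 e3
    exact Prod.ext (Subtype.ext e1) (Prod.ext (Subtype.ext e2) (Subtype.ext e3))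
  have hΨfix : ∀ a, R (Ψ a) = Ψ a := fun a => by
    have hr : ∀ l : L'', Quad.refl hQc0 (l : W) = l := fun l => Quad.refl_fix hQc0
      (show polar Q (l : W) c = 0 from (pS_symm _ _).trans l.2.2)
    simp only [hΨ, map_add, hRp, hr]
    rfl
  have hΨC : ∀ a, Ψ a ∈ C := fun a => by
    rw [hΨ]
    exact C.add_mem (hmem _ _ a.1.2.1) (C.add_mem (hmem _ _ a.2.1.2.1) (hmem _ _ a.2.2.2.1))
  set S := (LinearMap.range (pt u)).map g''.toLinearMap ⊓ LinearMap.range (pt u)
  have hsub : (LinearMap.range Ψ).map (g⁻¹).toLinearMap ≤ S := by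
    rintro _ ⟨_, ⟨a, rfl⟩, rfl⟩
    obtain ⟨z, hz, hze⟩ := hΨC a
    rw [LinearEquiv.coe_coe] at hze ⊢
    rw [← hze, Alt.inv_apply_self]
    refine ⟨⟨z, hz, ?_⟩, hz⟩
    rw [LinearEquiv.coe_coe, hg'', LinearEquiv.mul_apply, LinearEquiv.mul_apply, hze, hΨfix, ← hze, Alt.inv_apply_self]
  have hbig : 3 * finrank F L'' ≤ finrank F S := by
    refine le_trans ?_ (Submodule.finrank_mono hsub)
    rw [LinearEquiv.finrank_map_eq, LinearMap.finrank_range_of_inj hΨinj, Module.finrank_prod, Module.finrank_prod]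
    omega
  refine ⟨g'', mul_mem (mul_mem (inv_mem hg) hR) hg, fun hN => ?_, ?_⟩
  swap
  · show dd pt g u v < finrank F S
    rw [hdd]
    omega
  -- the image is moved
  obtain ⟨z, hz, hz0⟩ : ∃ z ∈ S, z ≠ 0 := Submodule.exists_mem_ne_zero_of_ne_bot fun h0 => by
    rw [h0, finrank_bot] at hbig; omega
  obtain ⟨⟨_, ⟨y, rfl⟩, rfl⟩, hz⟩ := hz
  have hy : y ≠ 0 := fun h0 => hz0 (by rw [h0, map_zero, map_zero])
  obtain ⟨_, ⟨y₂, rfl⟩, hy₂⟩ := hmem x l₀ hl₀
  obtain ⟨p, hp⟩ := hF.inN_meet hN hy hu hz y₂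
  rw [hg'', LinearEquiv.mul_apply, LinearEquiv.mul_apply, show g (pt u y₂) = pt x l₀ from hy₂, hRp] at hp
  have hr : Quad.refl hQc0 l₀ = -t₀ := by
    rw [Quad.refl_apply, ← pS_apply, hQc, hc, map_add, pS_self, hQl₀, mul_zero, add_zero, hlt₀, div_one, one_smul]
    abel
  have hmem' : pt x (-t₀) ∈ C := ⟨pt u p, ⟨p, rfl⟩, by
    rw [LinearEquiv.coe_coe, hp, Alt.apply_inv_self, hr]; rfl⟩
  have := hev t _ hmem'
  rw [hF.ev_pt, hxt, one_smul, L'.neg_mem_iff] at this
  exact one_ne_zero (htl.symm.trans (hsing t₀ this l₀ hl₀))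

/-- at a largest intersection the intersection is zero and the associated operator is scalar -/
theorem top_scalar (hD : ¬ Done hF X) {g : V ≃ₗ[F] V} (hg : g ∈ X) (hgN : ¬ InN pt g) {u v : U} (hu : u ≠ 0)
    (hv : v ≠ 0)
    (hmax : ∀ g' ∈ X, ¬ InN pt g' → ∀ u' v' : U, u' ≠ 0 → v' ≠ 0 → dd pt g' u' v' ≤ dd pt g u v) :
    dd pt g u v = 0 ∧ ∃ μ : F, μ ≠ 0 ∧ ∀ p, hF.ev v (g (pt u (hF.ev u (g⁻¹ (pt v p))))) = μ • p := by
  classical
  set D := dd pt g u v with hDdef
  haveI := hF.nontrivialW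
  -- the structure at a largest intersection
  have hstr : ∀ {g : V ≃ₗ[F] V}, g ∈ X → ¬ InN pt g → ∀ {u v : U}, u ≠ 0 → v ≠ 0 → dd pt g u v = D →
      finrank F (((LinearMap.range (pt u)).map g.toLinearMap).comap (pt v)) = D ∧
      (∀ y, hF.ev v (g (pt u y)) = 0 → g (pt u y) ∈ LinearMap.range (pt v)) ∧
      LinearMap.range (hF.ev v ∘ₗ g.toLinearMap ∘ₗ pt u) =
        LinearMap.BilinForm.orthogonal (polarBilin Q) (((LinearMap.range (pt u)).map g.toLinearMap).comap (pt v)) ∧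
      ((LinearMap.range (pt u)).map g.toLinearMap).comap (pt v) ⊓
        LinearMap.BilinForm.orthogonal (polarBilin Q) (((LinearMap.range (pt u)).map g.toLinearMap).comap (pt v)) = ⊥ := by
    intro g hg hgN u v hu hv hd
    set C := (LinearMap.range (pt u)).map g.toLinearMap with hC
    set L := C.comap (pt v) with hL
    have hLd : finrank F L = D := by rw [hL, finrank_comap_pure (hF.pt_injective hv), ← hd]; rfl
    set M := hF.ev v ∘ₗ g.toLinearMap ∘ₗ pt u with hM
    set S' := L.comap M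
    set L₂ := (LinearMap.range (pt v)).comap (g.toLinearMap ∘ₗ pt u) with hL₂
    have hinj : Function.Injective (g.toLinearMap ∘ₗ pt u) := g.injective.comp (hF.pt_injective hu)
    have hL₂d : finrank F L₂ = D := by
      rw [hL₂, finrank_comap_pure hinj, ← hd, LinearMap.range_comp, inf_comm]; rfl
    have hL₂M : L₂ ≤ LinearMap.ker M := fun y hy => by
      obtain ⟨p, hp⟩ := hy
      rw [LinearMap.mem_ker, hM, LinearMap.comp_apply, ← hp, hF.ev_pt, hF.A_self, zero_smul]
    have hS'd : finrank F S' ≤ D := by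
      by_contra hlt
      push Not at hlt
      set g' := g⁻¹ * hF.lt v 1 * g with hg'
      have hS'mem : ∀ y ∈ S', g' (pt u y) ∈ LinearMap.range (pt u) := fun y hy => by
        have hTz : hF.lt v 1 (g (pt u y)) ∈ C := by
          rw [hF.lt_apply, one_smul]
          exact C.add_mem ⟨_, ⟨y, rfl⟩, rfl⟩ hy
        obtain ⟨z, hz, e⟩ := hTz
        rw [hg', LinearEquiv.mul_apply, LinearEquiv.mul_apply, ← e, LinearEquiv.coe_coe, Alt.inv_apply_self]
        exact hz
      obtain ⟨y₀, hy₀, hy₀0⟩ : ∃ y ∈ S', y ≠ 0 := Submodule.exists_mem_ne_zero_of_ne_bot fun h0 => by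
        rw [h0, finrank_bot] at hlt; omega
      have hg'X : g' ∈ X := mul_mem (mul_mem (inv_mem hg) (hO.lt_mem hF v 1)) hg
      by_cases hN : InN pt g'
      · obtain ⟨g'', hg''X, hg''N, hlt'⟩ := tc_bigger hO hF hD hg hgN hu hv fun y => by
          obtain ⟨p, hp⟩ := hF.inN_meet hN hy₀0 hu (hS'mem y₀ hy₀) y
          refine ⟨pt u p, ⟨p, rfl⟩, ?_⟩
          rw [LinearEquiv.coe_coe, hp, hg', LinearEquiv.mul_apply, LinearEquiv.mul_apply, Alt.apply_inv_self]
        have := hmax g'' hg''X hg''N u u hu hu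
        omega
      · have h1 := hmax g' hg'X hN u u hu hu
        have h2 : finrank F S' ≤ dd pt g' u u := by
          unfold dd
          rw [← LinearMap.finrank_range_of_inj (f := g'.toLinearMap ∘ₗ pt u ∘ₗ S'.subtype)
            (g'.injective.comp ((hF.pt_injective hu).comp Subtype.val_injective))]
          refine Submodule.finrank_mono ?_
          rintro _ ⟨y, rfl⟩
          exact ⟨⟨_, ⟨y.1, rfl⟩, rfl⟩, hS'mem y y.2⟩
        omega
    have hker : LinearMap.ker M ≤ S' := fun y hy => by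
      show M y ∈ L
      rw [LinearMap.mem_ker.1 hy]
      exact L.zero_mem
    have hL₂S : L₂ = S' := Submodule.eq_of_le_of_finrank_le (hL₂M.trans hker) (by omega)
    have hk : LinearMap.ker M = L₂ := le_antisymm (hker.trans hL₂S.ge) hL₂M
    have hrk := M.finrank_range_add_finrank_ker
    rw [hk, hL₂d] at hrk
    have horth : finrank F (LinearMap.BilinForm.orthogonal (polarBilin Q) L) = finrank F W - D := by
      rw [LinearMap.BilinForm.finrank_orthogonal hF.Qnd L, hLd]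
    have hrange : LinearMap.range M = LinearMap.BilinForm.orthogonal (polarBilin Q) L := by
      refine Submodule.eq_of_le_of_finrank_eq ?_ (by omega)
      rintro _ ⟨y, rfl⟩ l hl
      show pS Q l (M y) = 0
      rw [pS_symm, hM, LinearMap.comp_apply, hF.pS_ev]
      exact iso_image hF (hO.iso g hg) u ⟨_, ⟨y, rfl⟩, rfl⟩ hl
    refine ⟨hLd, fun y hy => ?_, hrange, ?_⟩
    · have : y ∈ L₂ := hk ▸ LinearMap.mem_ker.2 hy
      exact this
    · rw [Submodule.eq_bot_iff]
      rintro w ⟨hwL, hw⟩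
      rw [← hrange] at hw
      obtain ⟨y, rfl⟩ := hw
      have : y ∈ LinearMap.ker M := hk ▸ (hL₂S ▸ (show y ∈ S' from hwL) : y ∈ L₂)
      exact this
  have hgi : ¬ InN pt g⁻¹ := fun h => hgN (by simpa using hF.inN_inv h)
  obtain ⟨hLd, hker, hrange, hdisj⟩ := hstr hg hgN hu hv rfl
  obtain ⟨-, -, -, hdisj₂⟩ := hstr (inv_mem hg) hgi hv hu (dd_inv hF g u v)
  set C := (LinearMap.range (pt u)).map g.toLinearMap with hC
  set L := C.comap (pt v) with hL
  set Lp := LinearMap.BilinForm.orthogonal (polarBilin Q) L with hLp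
  set L₂ := ((LinearMap.range (pt v)).map (g⁻¹).toLinearMap).comap (pt u) with hL₂
  have hkerC : ∀ c ∈ C, hF.ev v c = 0 → c ∈ LinearMap.range (pt v) := by
    rintro _ ⟨_, ⟨y, rfl⟩, rfl⟩ h
    exact hker y h
  have hsup : L ⊔ Lp = ⊤ := by
    refine Submodule.eq_top_of_finrank_eq ?_
    have h1 := Submodule.finrank_sup_add_finrank_inf_eq L Lp
    have h2 : finrank F Lp = finrank F W - finrank F L :=
      LinearMap.BilinForm.finrank_orthogonal hF.Qnd L
    rw [hdisj, finrank_bot, h2] at h1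
    have := Submodule.finrank_le L
    omega
  let γs : V →ₗ[F] W := hF.ev u ∘ₗ (g⁻¹).toLinearMap
  have hγC : ∀ c ∈ C, γs c = 0 := by
    rintro _ ⟨_, ⟨y, rfl⟩, rfl⟩
    show hF.ev u (g⁻¹ (g (pt u y))) = 0
    rw [Alt.inv_apply_self, hF.ev_pt, hF.A_self, zero_smul]
  have hγ : ∀ z y, pS Q (γs z) y = B z (g (pt u y)) := fun z y => by
    show pS Q (hF.ev u (g⁻¹ z)) y = _
    rw [hF.pS_ev, ← hO.iso g hg (g⁻¹ z), Alt.apply_inv_self]
  let N₀ : W →ₗ[F] W := hF.ev v ∘ₗ g.toLinearMap ∘ₗ pt u ∘ₗ γs ∘ₗ pt v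
  have hN₀Lp : ∀ p, N₀ p ∈ Lp := fun p => hrange ▸ ⟨γs (pt v p), rfl⟩
  let N : Module.End F Lp := (N₀ ∘ₗ Lp.subtype).codRestrict Lp fun p => hN₀Lp p
  have hNinj : Function.Injective N := (injective_iff_map_eq_zero N).2 fun p hp => by
    have hp' : hF.ev v (g (pt u (γs (pt v (p : W))))) = 0 := congrArg Subtype.val hp
    set w := γs (pt v (p : W)) with hw
    have hw2 : w ∈ L₂ := by
      obtain ⟨q, hq⟩ := hker w hp'
      exact ⟨pt v q, ⟨q, rfl⟩, by rw [LinearEquiv.coe_coe, hq, Alt.inv_apply_self]⟩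
    have hwperp : w ∈ LinearMap.BilinForm.orthogonal (polarBilin Q) L₂ := fun e he => by
      show pS Q e w = 0
      obtain ⟨_, ⟨q, rfl⟩, hq⟩ := he
      rw [pS_symm, hw, hγ, ← show g⁻¹ (pt v q) = pt u e from hq, Alt.apply_inv_self, hF.prod, hF.A_self, zero_mul]
    have hw0 : w = 0 := (Submodule.mem_bot F).1 (hdisj₂ ▸ ⟨hw2, hwperp⟩)
    refine Subtype.ext (hF.eq_zero_of_pS fun y => ?_)
    obtain ⟨l, hl, r, hr, rfl⟩ := Submodule.mem_sup.1 (hsup.symm ▸ Submodule.mem_top : y ∈ L ⊔ Lp)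
    have e1 : pS Q (p : W) l = 0 := (pS_symm _ _).trans (p.2 l hl)
    have e2 : pS Q (p : W) r = 0 := by
      rw [← hrange] at hr
      obtain ⟨y', rfl⟩ := hr
      rw [LinearMap.comp_apply, LinearMap.comp_apply, LinearEquiv.coe_coe, pS_symm, hF.pS_ev, hF.B_swap, neg_eq_zero,
        ← hγ, ← hw, hw0, map_zero, LinearMap.zero_apply]
    rw [map_add, e1, e2, add_zero]
  -- the elements realising the generators
  have hone : Rep hF X v L Lp C N 1 :=
    ⟨1, one_mem X, fun _ _ => rfl, fun z => by simp, fun p r c hc hr => ⟨c, hc, by simp [hr], by simp⟩⟩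
  have hmul : ∀ M M', Rep hF X v L Lp C N M → Rep hF X v L Lp C N M' → Rep hF X v L Lp C N (M * M') := by
    rintro M M' ⟨h, hh, hl, hd, hc⟩ ⟨h', hh', hl', hd', hc'⟩
    refine ⟨h * h', mul_mem hh hh', fun l hl0 => by rw [LinearEquiv.mul_apply, hl' l hl0, hl l hl0], fun z => ?_,
      fun p r c hcC hr => ?_⟩
    · have := Submodule.add_mem _ (hd (h' z)) (hd' z)
      rwa [sub_add_sub_cancel] at this
    · obtain ⟨c₁, hc₁, hr₁, e₁⟩ := hc' p r c hcC hr
      obtain ⟨c₂, hc₂, hr₂, e₂⟩ := hc (Polynomial.aeval N (M' 0 0) p + Polynomial.aeval N (M' 0 1) r) _ c₁ hc₁ hr₁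
      refine ⟨c₂, hc₂, ?_, ?_⟩
      · rw [hr₂]
        congr 1
        simp only [Matrix.SpecialLinearGroup.coe_mul, Matrix.mul_apply, Fin.sum_univ_two, map_add, map_mul,
          LinearMap.add_apply, Module.End.mul_apply]
        abel
      · rw [LinearEquiv.mul_apply, e₁, e₂]
        congr 3
        simp only [Matrix.SpecialLinearGroup.coe_mul, Matrix.mul_apply, Fin.sum_univ_two, map_add, map_mul,
          LinearMap.add_apply, Module.End.mul_apply]
        abel
  have hx : ∀ s : F, Rep hF X v L Lp C N (upR (algebraMap F F[X] s)) := fun s => by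
    refine ⟨hF.lt v s, hO.lt_mem hF v s, fun l _ => ?_, fun z => ?_, fun p r c hc hr => ?_⟩
    · rw [hF.lt_apply, hF.ev_pt, hF.A_self, zero_smul, map_zero, smul_zero, add_zero]
    · rw [hF.lt_apply, add_sub_cancel_left]
      exact Submodule.mem_sup_left (Submodule.smul_mem _ _ ⟨_, rfl⟩)
    · refine ⟨c, hc, by simp [coe_upR, hr], ?_⟩
      rw [hF.lt_apply, map_add (hF.ev v), hF.ev_pt, hF.A_self, zero_smul, zero_add, hr]
      simp only [coe_upR, Matrix.of_apply, Matrix.cons_val_zero, Matrix.cons_val_one, map_one, Polynomial.aeval_C,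
        Polynomial.algebraMap_eq, Module.End.one_apply, Module.algebraMap_end_apply, Submodule.coe_add,
        Submodule.coe_smul, map_add, map_smul]
      abel
  have hy : ∀ s : F, Rep hF X v L Lp C N (lowR (algebraMap F F[X] s * Polynomial.X)) := fun s => by
    have hkz : ∀ z, (g * hF.lt u s * g⁻¹) z = z + s • g (pt u (γs z)) := fun z => by
      rw [LinearEquiv.mul_apply, LinearEquiv.mul_apply, hF.lt_apply, map_add, Alt.apply_inv_self, map_smul]
      rfl
    refine ⟨g * hF.lt u s * g⁻¹, mul_mem (mul_mem hg (hO.lt_mem hF u s)) (inv_mem hg), fun l hl => ?_, fun z => ?_,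
      fun p r c hc hr => ⟨c + s • g (pt u (γs (pt v (p : W)))),
        C.add_mem hc (C.smul_mem _ ⟨_, ⟨_, rfl⟩, rfl⟩), ?_, ?_⟩⟩
    · rw [hkz, hγC _ hl, map_zero, map_zero, smul_zero, add_zero]
    · rw [hkz, add_sub_cancel_left]
      exact Submodule.mem_sup_right (C.smul_mem _ ⟨_, ⟨_, rfl⟩, rfl⟩)
    · rw [map_add, map_smul, hr]
      simp only [coe_lowR, Matrix.of_apply, Matrix.cons_val_zero, Matrix.cons_val_one, map_one, map_mul,
        Polynomial.aeval_C, Polynomial.aeval_X, Polynomial.algebraMap_eq, Module.End.one_apply, Module.End.mul_apply,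
        Module.algebraMap_end_apply, Submodule.coe_add, Submodule.coe_smul]
      rw [add_comm]
      rfl
    · rw [hkz, map_add γs, hγC c hc, add_zero]
      simp only [coe_lowR, Matrix.of_apply, Matrix.cons_val_zero, Matrix.cons_val_one, map_one, map_zero,
        Module.End.one_apply, LinearMap.zero_apply, add_zero]
      abel
  obtain ⟨M, hM, hcase⟩ := by
    haveI : Nontrivial Lp := by
      rw [Submodule.nontrivial_iff_ne_bot]
      intro h0
      rw [h0, sup_bot_eq] at hsup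
      refine hgN (hO.maps_inN hF hD hu hv hg fun y => hker y ?_)
      have : hF.ev v (g (pt u y)) ∈ Lp := hrange ▸ ⟨y, rfl⟩
      rw [h0, Submodule.mem_bot] at this
      exact this
    exact exists_word hF.two N hNinj
  obtain ⟨h, hh, hl, hd, hc⟩ : Rep hF X v L Lp C N M := by
    clear hcase
    induction hM using Subgroup.closure_induction'' with
    | one => exact hone
    | mem M hM =>
      rcases hM with ⟨s, rfl⟩ | ⟨s, rfl⟩
      · exact hx s
      · exact hy s
    | inv_mem M hM =>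
      rcases hM with ⟨s, rfl⟩ | ⟨s, rfl⟩
      · show Rep hF X v L Lp C N (upR _)⁻¹
        rw [upR_inv, ← map_neg]; exact hx (-s)
      · show Rep hF X v L Lp C N (lowR _)⁻¹
        rw [lowR_inv, ← neg_mul, ← map_neg]; exact hy (-s)
    | mul M M' _ _ hM hM' => exact hmul M M' hM hM'
  -- the image of `v ⊗ p`
  have himg : ∀ p : Lp, ∃ c' ∈ C, hF.ev v c' = (Polynomial.aeval N (M 1 0) p : W) ∧
      h (pt v p) = pt v (Polynomial.aeval N (M 0 0) p : W) + c' := fun p => by
    obtain ⟨c', h1, h2, h3⟩ := hc p 0 0 C.zero_mem (by simp)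
    exact ⟨c', h1, by simpa using h2, by simpa using h3⟩
  have hfix0 : ∀ p : Lp, Polynomial.aeval N (M 1 0) p = 0 → h (pt v p) ∈ LinearMap.range (pt v) := fun p hp => by
    obtain ⟨c', h1, h2, h3⟩ := himg p
    rw [hp] at h2
    rw [h3]
    exact Submodule.add_mem _ ⟨_, rfl⟩ (hkerC c' h1 h2)
  rcases hcase with ⟨hne, p₀, hp₀, hp₀0⟩ | ⟨hzero, hne1, hlast⟩
  · -- a larger intersection
    exfalso
    obtain ⟨p₁, hp₁⟩ : ∃ p, Polynomial.aeval N (M 1 0) p ≠ 0 := by
      by_contra! h0; exact hne (LinearMap.ext h0)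
    have hp₀W : (p₀ : W) ≠ 0 := fun h0 => hp₀ (Subtype.ext h0)
    have hhN : ¬ InN pt h := fun hN => by
      obtain ⟨c', h1, h2, h3⟩ := himg p₁
      obtain ⟨q, hq⟩ := hF.inN_meet hN hp₀W hv (hfix0 p₀ hp₀0) p₁
      refine hp₁ (Subtype.ext ?_)
      have : hF.ev v (h (pt v p₁)) = 0 := by rw [← hq, hF.ev_pt, hF.A_self, zero_smul]
      rwa [h3, map_add, hF.ev_pt, hF.A_self, zero_smul, zero_add, h2] at this
    set S'' := L ⊔ F ∙ (p₀ : W) with hS''
    have hle : S''.map (h.toLinearMap ∘ₗ pt v) ≤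
        (LinearMap.range (pt v)).map h.toLinearMap ⊓ LinearMap.range (pt v) := by
      refine le_inf ?_ ?_
      · rw [Submodule.map_comp]
        exact Submodule.map_mono LinearMap.map_le_range
      · rw [Submodule.map_sup]
        refine sup_le ?_ ?_
        · rintro _ ⟨l, hl0, rfl⟩
          exact ⟨l, (hl l hl0).symm⟩
        · rw [Submodule.map_span, Set.image_singleton, Submodule.span_singleton_le_iff_mem]
          exact hfix0 p₀ hp₀0
    have hgt : D < finrank F S'' := by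
      rw [← hLd]
      refine Submodule.finrank_lt_finrank_of_lt (lt_of_le_of_ne le_sup_left fun heq => hp₀W ?_)
      have : (p₀ : W) ∈ L := heq ▸ Submodule.mem_sup_right (Submodule.mem_span_singleton_self _)
      exact (Submodule.mem_bot F).1 (hdisj ▸ ⟨this, p₀.2⟩)
    have := (Submodule.finrank_mono hle).trans (hmax h hh hhN v v hv hv)
    rw [← (Submodule.equivMapOfInjective _ (show Function.Injective (h.toLinearMap ∘ₗ pt v) from
      h.injective.comp (hF.pt_injective hv)) S'').finrank_eq] at this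
    omega
  -- the subspace is stable
  have hstab : ∀ y, h (pt v y) ∈ LinearMap.range (pt v) := fun y => by
    obtain ⟨l, hl0, r, hr, rfl⟩ := Submodule.mem_sup.1 (hsup.symm ▸ Submodule.mem_top : y ∈ L ⊔ Lp)
    rw [map_add, map_add, hl l hl0]
    exact Submodule.add_mem _ ⟨l, rfl⟩ (hfix0 ⟨r, hr⟩ (by rw [hzero]; rfl))
  obtain ⟨a, b, e⟩ := hO.stab_inN hF hD hv hh hstab
  have hsurj : (LinearMap.range (pt v)).map h.toLinearMap = LinearMap.range (pt v) :=
    Submodule.eq_of_le_of_finrank_eq (by rintro _ ⟨_, ⟨y, rfl⟩, rfl⟩; exact hstab y) (LinearEquiv.finrank_map_eq _ _)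
  obtain ⟨x, t, hvx, hvt, hxt⟩ := hF.exists_plane hv
  have hbκ : ∀ y, A (a x) t • b y = y := fun y => by
    have hev0 : hF.ev v (h (pt x y)) = 0 := hF.eq_of_pS fun p => by
      obtain ⟨_, ⟨p', rfl⟩, hp'⟩ : pt v p ∈ (LinearMap.range (pt v)).map h.toLinearMap := by
        rw [hsurj]; exact ⟨p, rfl⟩
      rw [hF.pS_ev, ← hp', LinearEquiv.coe_coe, hO.iso h hh, hF.prod, hF.A_perp_symm hvx, zero_mul, map_zero,
        LinearMap.zero_apply]
    obtain ⟨z₁, hz₁, z₂, hz₂, hz⟩ := Submodule.mem_sup.1 (hd (pt x y))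
    have hz2 : hF.ev v z₂ = 0 := by
      have := congrArg (hF.ev v) hz
      rwa [map_sub, hev0, hF.ev_pt, hF.A_perp_symm hvx, zero_smul, sub_zero, map_add, hF.ev_mem_R (hF.A_self v) hz₁,
        zero_add] at this
    have hzR : h (pt x y) - pt x y ∈ LinearMap.range (pt v) := hz ▸ Submodule.add_mem _ hz₁ (hkerC z₂ hz₂ hz2)
    have := hF.ev_mem_R hvt hzR
    rwa [map_sub, e, hF.ev_pt, hF.ev_pt, hxt, one_smul, sub_eq_zero] at this
  set κ := A (a x) t
  obtain ⟨y₁, hy₁⟩ := exists_ne (0 : W)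
  have hκ : κ ≠ 0 := fun h0 => hy₁ (by rw [← hbκ y₁, h0, zero_smul])
  have hh' : ∀ y, h (pt v y) = pt (κ⁻¹ • a v) y := fun y => by
    rw [e, map_smul pt, LinearMap.smul_apply, ← map_smul]
    congr 1
    conv_rhs => rw [← hbκ y]
    rw [inv_smul_smul₀ hκ]
  obtain ⟨lam, hlam⟩ : ∃ lam : F, κ⁻¹ • a v = lam • v := by
    by_contra! hne
    obtain ⟨t', ht', hne'⟩ := exists_sep hF (v := v) (p := κ⁻¹ • a v) (fun hm => by
      obtain ⟨lam, hlam⟩ := Submodule.mem_span_singleton.1 hm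
      exact hne lam hlam.symm)
    have := hF.ev_mem_R ht' (hstab y₁)
    rw [hh', hF.ev_pt, smul_eq_zero] at this
    exact this.elim hne' hy₁
  have hT : ∀ y, h (pt v y) = pt v (lam • y) := fun y => by
    rw [hh', hlam, map_smul pt, LinearMap.smul_apply, map_smul]
  have hα : ∀ p : Lp, Polynomial.aeval N (M 0 0) p = lam • p := fun p => by
    obtain ⟨c', h1, h2, h3⟩ := himg p
    rw [hzero] at h2
    obtain ⟨q, rfl⟩ := hkerC c' h1 h2
    rw [hT, ← map_add] at h3
    have h4 := hF.pt_injective hv h3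
    have hq : q = 0 := by
      refine (Submodule.mem_bot F).1 (hdisj ▸ ⟨h1, ?_⟩)
      have : q = ((lam • p - Polynomial.aeval N (M 0 0) p : Lp) : W) := by
        rw [Submodule.coe_sub, Submodule.coe_smul, h4, add_sub_cancel_left]
      rw [this]
      exact Submodule.coe_mem _
    rw [hq, add_zero] at h4
    exact Subtype.ext h4.symm
  have hD0 : D = 0 := by
    by_contra hne
    obtain ⟨l, hl0, hl00⟩ : ∃ l ∈ L, l ≠ 0 := Submodule.exists_mem_ne_zero_of_ne_bot fun h0 => hne (by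
      rw [← hLd, h0, finrank_bot])
    have h1 := hl l hl0
    rw [hT] at h1
    have h2 : (lam - 1) • l = 0 := by rw [sub_smul, one_smul, hF.pt_injective hv h1, sub_self]
    have hlam1 : lam = 1 := sub_eq_zero.1 ((smul_eq_zero.1 h2).resolve_right hl00)
    exact hne1 (LinearMap.ext fun p => by rw [hα, hlam1, one_smul]; rfl)
  refine ⟨hD0, ?_⟩
  obtain ⟨μ, hμ⟩ := hlast.resolve_right fun hall => hall lam (LinearMap.ext fun p => by
    rw [hα, Module.algebraMap_end_apply])
  have hLtop : ∀ p, p ∈ Lp := fun p => by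
    have hLbot : L = ⊥ := Submodule.finrank_eq_zero.1 (by rw [hLd, hD0])
    have := hsup
    rw [hLbot, bot_sup_eq] at this
    rw [this]
    exact Submodule.mem_top
  refine ⟨μ, fun h0 => hy₁ ?_, fun p => congrArg Subtype.val (hμ ⟨p, hLtop p⟩)⟩
  have h1 : (⟨y₁, hLtop y₁⟩ : Lp) = 0 := hNinj (by rw [hμ, h0, zero_smul, map_zero])
  exact congrArg Subtype.val h1

/-- every element preserves the decomposition -/
theorem Over.inN (hD : ¬ Done hF X) {g : V ≃ₗ[F] V} (hg : g ∈ X) : InN pt g := by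
  classical
  by_contra hgN
  haveI := hF.nontrivialU
  obtain ⟨u, hu⟩ := exists_ne (0 : U)
  let P : ℕ → Prop := fun n => ∃ g' ∈ X, ¬ InN pt g' ∧ ∃ u' v' : U, u' ≠ 0 ∧ v' ≠ 0 ∧ dd pt g' u' v' = n
  have hbound : ∀ g' : V ≃ₗ[F] V, ∀ u' v' : U, v' ≠ 0 → dd pt g' u' v' ≤ finrank F W := fun g' u' v' hv' =>
    (Submodule.finrank_mono inf_le_right).trans (hF.finrank_R hv').le
  have hP : P (dd pt g u u) := ⟨g, hg, hgN, u, u, hu, hu, rfl⟩
  obtain ⟨g₁, hg₁, hgN₁, u₁, v₁, hu₁, hv₁, he⟩ := Nat.findGreatest_spec (hbound g u u hu) hP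
  have hle : ∀ g' ∈ X, ¬ InN pt g' → ∀ u' v' : U, u' ≠ 0 → v' ≠ 0 → dd pt g' u' v' ≤ dd pt g₁ u₁ v₁ :=
    fun g' hg' hN u' v' hu' hv' =>
      he ▸ Nat.le_findGreatest (P := P) (hbound g' u' v' hv') ⟨g', hg', hN, u', v', hu', hv', rfl⟩
  have h0 := (top_scalar hO hF hD hg₁ hgN₁ hu₁ hv₁ hle).1
  obtain ⟨y₀, hy₀⟩ := hF.exists_aniso
  obtain ⟨v, hv, hQv⟩ := Quad.exists_singular (Q.comp (hF.ev u ∘ₗ (g⁻¹).toLinearMap ∘ₗ pt.flip y₀))
    (by have := hF.dimU; omega)
  obtain ⟨-, μ, hμ0, hμ⟩ := top_scalar hO hF hD hg hgN hu hv (fun g' hg' hN u' v' hu' hv' => by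
    have := hle g' hg' hN u' v' hu' hv'
    omega)
  set w := hF.ev u (g⁻¹ (pt v y₀)) with hw
  have hQw : Q w = 0 := hQv
  have h1 := congrArg (fun e => pS Q e y₀) (hμ y₀)
  simp only [map_smul, LinearMap.smul_apply, smul_eq_mul, pS_self, hF.pS_ev, ← hw] at h1
  rw [hF.B_swap, ← Alt.apply_inv_self g (pt v y₀), hO.iso g hg, ← hF.pS_ev, ← hw, pS_self, hQw, mul_zero,
    neg_zero, eq_comm] at h1
  exact mul_ne_zero hμ0 (mul_ne_zero hF.two hy₀) h1

end Cfsg.Agent.ClassicalMax.SpTensor
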