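import Cfsg.Agent.ClassicalMax.SpTensor.Criterion

/-!
Overgroups of the stabiliser of a decomposition `Sp ⊗ O`: an element mapping one subspace `u ⊗ W` to itself preserves
the decomposition unless every transvection is present.
-/

set_option autoImplicit false
set_option linter.unusedSectionVars false
set_option linter.style.haveILetI false

namespace Cfsg.Agent.ClassicalMax.SpTensor

open Module QuadraticMap Cfsg.Agent.Classical Cfsg.Agent.ClassicalMax
open Cfsg.Agent.ClassicalMax.SpTwo (pS pS_apply pS_symm pS_self q_add q_smul)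

variable {F U W V : Type*} [Field F] [Finite F] [AddCommGroup U] [Module F U] [AddCommGroup W] [Module F W]
  [AddCommGroup V] [Module F V] [FiniteDimensional F U] [FiniteDimensional F W] [FiniteDimensional F V]
  {B : LinearMap.BilinForm F V} {A : LinearMap.BilinForm F U} {Q : QuadraticForm F W} {pt : U →ₗ[F] W →ₗ[F] V}
  {X : Subgroup (V ≃ₗ[F] V)}

/-- the adjoint -/
noncomputable def Frame.adj (hF : Frame B A Q pt) (T : W →ₗ[F] W) : W →ₗ[F] W :=
  (LinearMap.BilinForm.toDual (polarBilin Q) hF.Qnd).symm.toLinearMap ∘ₗ T.dualMap ∘ₗ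
    (LinearMap.BilinForm.toDual (polarBilin Q) hF.Qnd).toLinearMap

theorem Frame.pS_adj (hF : Frame B A Q pt) (T : W →ₗ[F] W) (e y : W) : pS Q (hF.adj T e) y = pS Q e (T y) := by
  show polarBilin Q _ y = _
  rw [Frame.adj, LinearMap.comp_apply, LinearMap.comp_apply, LinearEquiv.coe_coe,
    LinearMap.BilinForm.apply_toDual_symm_apply, LinearMap.dualMap_apply, LinearEquiv.coe_coe,
    LinearMap.BilinForm.toDual_def]
  rfl

/-- an element fixing `u ⊗ W` pointwise and acting trivially on its orthogonal modulo it -/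
structure Hel (hF : Frame B A Q pt) (X : Subgroup (V ≃ₗ[F] V)) (u : U) (h : V ≃ₗ[F] V) (ψ : W →ₗ[F] V)
    (ρ : V →ₗ[F] W) : Prop where
  mem : h ∈ X
  ev : ∀ e, hF.ev u (ψ e) = 0
  fix : ∀ y, ρ (pt u y) = 0
  eq : ∀ z, h z = z + ψ (hF.ev u z) + pt u (ρ z)

variable (hO : Over B pt X) (hF : Frame B A Q pt)
include hO hF

/-- a scalar on one subspace `u ⊗ W` -/
theorem Over.rad_scalar (hD : ¬ Done hF X) {u : U} (hu : u ≠ 0) {S : W →ₗ[F] W} (h : hF.rad u S ∈ X) :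
    ∃ μ : F, ∀ y, S y = μ • y :=
  by_contra fun h' => hD (hO.rad_done hF hu h h')

theorem Over.rad_inN (hD : ¬ Done hF X) {u : U} (hu : u ≠ 0) {S : W →ₗ[F] W} (h : hF.rad u S ∈ X) :
    InN pt (hF.rad u S) := by
  obtain ⟨μ, hμ⟩ := hO.rad_scalar hF hD hu h
  rw [show S = μ • LinearMap.id from LinearMap.ext hμ]
  exact hF.lt_inN u μ

namespace Hel

variable {u : U} {h h' : V ≃ₗ[F] V} {ψ ψ' : W →ₗ[F] V} {ρ ρ' : V →ₗ[F] W}

omit hO in
theorem ev_eq (H : Hel hF X u h ψ ρ) (z : V) : hF.ev u (h z) = hF.ev u z := by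
  rw [H.eq, map_add, map_add, H.ev, hF.ev_pt, hF.A_self, zero_smul, add_zero, add_zero]

omit hO in
theorem mul (H : Hel hF X u h ψ ρ) (H' : Hel hF X u h' ψ' ρ') :
    Hel hF X u (h * h') (ψ + ψ') (ρ + ρ' + ρ ∘ₗ ψ' ∘ₗ hF.ev u) := by
  refine ⟨mul_mem H.mem H'.mem, fun e => ?_, fun y => ?_, fun z => ?_⟩
  · rw [LinearMap.add_apply, map_add, H.ev, H'.ev, add_zero]
  · simp [H.fix, H'.fix, hF.ev_pt, hF.A_self]
  · rw [LinearEquiv.mul_apply, H.eq, H'.ev_eq hF, H'.eq]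
    simp only [LinearMap.add_apply, LinearMap.comp_apply, map_add, H.fix, add_zero]
    abel

omit hO in
theorem inv (H : Hel hF X u h ψ ρ) :
    Hel hF X u h⁻¹ (-ψ) (-ρ + ρ ∘ₗ ψ ∘ₗ hF.ev u) := by
  refine ⟨inv_mem H.mem, fun e => ?_, fun y => ?_, fun z => h.injective ?_⟩
  · rw [LinearMap.neg_apply, map_neg, H.ev, neg_zero]
  · simp [H.fix, hF.ev_pt, hF.A_self]
  · rw [Alt.apply_inv_self, H.eq]
    simp only [LinearMap.add_apply, LinearMap.comp_apply, LinearMap.neg_apply, map_add, map_neg, H.fix, H.ev,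
      hF.ev_pt, hF.A_self, zero_smul, add_zero, neg_zero]
    abel

omit hO in
/-- conjugation by a preserving element fixing `u` -/
theorem conj (H : Hel hF X u h ψ ρ) {k : V ≃ₗ[F] V} (hk : k ∈ X) {b : W ≃ₗ[F] W}
    (hku : ∀ y, k (pt u y) = pt u (b y)) (hkev : ∀ z, hF.ev u (k z) = b (hF.ev u z)) :
    Hel hF X u (k * h * k⁻¹) (k.toLinearMap ∘ₗ ψ ∘ₗ b.symm.toLinearMap)
      (b.toLinearMap ∘ₗ ρ ∘ₗ k.symm.toLinearMap) := by
  refine ⟨mul_mem (mul_mem hk H.mem) (inv_mem hk), fun e => ?_, fun y => ?_, fun z => ?_⟩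
  · simp [hkev, H.ev]
  · have : k.symm (pt u y) = pt u (b.symm y) := k.injective (by rw [k.apply_symm_apply, hku, b.apply_symm_apply])
    simp [this, H.fix]
  · obtain ⟨z, rfl⟩ := k.surjective z
    rw [LinearEquiv.mul_apply, LinearEquiv.mul_apply, Alt.inv_apply_self, H.eq, map_add, map_add, hku, hkev]
    simp

/-- the commutator is supported on `u ⊗ W`, hence scalar -/
theorem comm (hD : ¬ Done hF X) (hu : u ≠ 0) (H : Hel hF X u h ψ ρ) (H' : Hel hF X u h' ψ' ρ') :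
    ∃ μ : F, ∀ e y, B (ψ' e) (ψ y) - B (ψ e) (ψ' y) = μ * pS Q e y := by
  obtain ⟨u', hu'⟩ := hF.exists_partner hu
  have key : ∀ {h : V ≃ₗ[F] V} {ψ : W →ₗ[F] V} {ρ : V →ₗ[F] W}, Hel hF X u h ψ ρ →
      ∀ w, hF.ev u w = 0 → ∀ y, pS Q (ρ w) y = B w (ψ y) := by
    intro h ψ ρ H w hw y
    have h1 := hO.iso h H.mem w (pt u' y)
    rw [H.eq, H.eq, hw, map_zero, add_zero, hF.ev_pt, hF.A_swap u u', hu', neg_one_smul] at h1
    have h2 : B (pt u (ρ w)) (ψ (-y)) = 0 := by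
      rw [hF.B_swap, ← hF.pS_ev, H.ev, map_zero, LinearMap.zero_apply, neg_zero]
    have h3 : B w (pt u (ρ (pt u' y))) = 0 := by rw [← hF.pS_ev, hw, map_zero, LinearMap.zero_apply]
    simp only [map_add, LinearMap.add_apply, hF.prod, hF.A_self, hu', h2, h3, zero_mul, one_mul, add_zero] at h1
    rw [map_neg, map_neg] at h1
    linear_combination h1
  have hc := mul_mem (mul_mem H.mem H'.mem) (inv_mem (mul_mem H'.mem H.mem))
  set S : W →ₗ[F] W := ρ ∘ₗ ψ' - ρ' ∘ₗ ψ with hS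
  have hrad : h * h' * (h' * h)⁻¹ = hF.rad u S := LinearEquiv.ext fun z => by
    obtain ⟨z, rfl⟩ := (h' * h).surjective z
    rw [LinearEquiv.mul_apply, Alt.inv_apply_self, hF.rad_apply,
      show hF.ev u ((h' * h) z) = hF.ev u z by rw [LinearEquiv.mul_apply, H'.ev_eq hF, H.ev_eq hF],
      (H.mul hF H').eq, (H'.mul hF H).eq, hS]
    simp only [LinearMap.add_apply, LinearMap.sub_apply, LinearMap.comp_apply, map_add, map_sub]
    abel
  obtain ⟨μ, hμ⟩ := hO.rad_scalar hF hD hu (hrad ▸ hc)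
  refine ⟨μ, fun e y => ?_⟩
  have := congrArg (fun a => pS Q a y) (hμ e)
  simp only [hS, LinearMap.sub_apply, LinearMap.comp_apply, map_sub, map_smul, LinearMap.smul_apply, smul_eq_mul,
    key H _ (H'.ev e), key H' _ (H.ev e)] at this
  exact this

end Hel

/-- the element built from the transvections along `u`, `w` and `u + w` -/
theorem Over.hel_lt {u w : U} (huw : A u w = 0) :
    ∃ E : V ≃ₗ[F] V, InN pt E ∧ Hel hF X u E (pt w) (hF.ev w) := by
  have hwu := hF.A_perp_symm huw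
  refine ⟨hF.lt (u + w) 1 * (hF.lt u (-1) * hF.lt w (-1)), (hF.lt_inN _ _).mul ((hF.lt_inN _ _).mul (hF.lt_inN _ _)),
    mul_mem (hO.lt_mem hF _ _) (mul_mem (hO.lt_mem hF _ _) (hO.lt_mem hF _ _)), fun e => ?_, fun y => ?_, fun z => ?_⟩
  · rw [hF.ev_pt, hwu, zero_smul]
  · rw [hF.ev_pt, huw, zero_smul]
  · simp only [LinearEquiv.mul_apply, hF.lt_apply, map_add, LinearMap.add_apply, hF.ev_pt, hF.A_self, huw,
      hwu, zero_smul, map_zero, add_zero, zero_add, one_smul, neg_smul, map_neg]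
    abel

/-- modulo `u ⊗ W` the values of an element are pure, with a fixed second factor -/
theorem Hel.pure (hD : ¬ Done hF X) {u : U} (hu : u ≠ 0) {h : V ≃ₗ[F] V} {ψ : W →ₗ[F] V} {ρ : V →ₗ[F] W}
    (H : Hel hF X u h ψ ρ) {y₀ : W} (hy₀ : Q y₀ ≠ 0) {v : U} (huv : A u v = 0) (y : W) :
    hF.ev v (ψ y) = (pS Q (hF.ev v (ψ y₀)) y₀ / (2 * Q y₀)) • y := by
  have two := hF.two
  have h2y : 2 * Q y₀ ≠ 0 := mul_ne_zero two hy₀
  have hsym : ∀ {h : V ≃ₗ[F] V} {ψ : W →ₗ[F] V} {ρ : V →ₗ[F] W}, Hel hF X u h ψ ρ → ∀ v, A u v = 0 → ∀ e y,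
      pS Q (hF.ev v (ψ e)) y + pS Q (hF.ev v (ψ y)) e = pS Q (hF.ev v (ψ y₀)) y₀ / Q y₀ * pS Q e y := by
    intro h ψ ρ H v huv
    obtain ⟨E, -, HE⟩ := hO.hel_lt hF huv
    obtain ⟨μ, hμ⟩ := HE.comm hO hF hD hu H
    have hrel : ∀ e y, pS Q (hF.ev v (ψ e)) y + pS Q (hF.ev v (ψ y)) e = μ * pS Q e y := fun e y => by
      rw [← hμ, hF.B_swap (ψ y) (pt v e), hF.pS_ev, hF.pS_ev]
      ring
    intro e y
    rw [hrel e y]
    congr 1
    rw [eq_div_iff hy₀]
    have h0 := hrel y₀ y₀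
    rw [pS_self] at h0
    exact mul_left_cancel₀ two (by linear_combination -h0)
  -- remove the scalar part
  let κ : U →ₗ[F] F := (2 * Q y₀)⁻¹ • ((pS Q).flip y₀ ∘ₗ (hF.ev).flip (ψ y₀))
  set v' := (LinearMap.BilinForm.toDual A hF.And).symm κ with hv'
  have hκ : ∀ x, A v' x = pS Q (hF.ev x (ψ y₀)) y₀ / (2 * Q y₀) := fun x => by
    rw [hv', LinearMap.BilinForm.apply_toDual_symm_apply]
    simp [κ, div_eq_inv_mul]
  have huv' : A u (-v') = 0 := by
    rw [map_neg, neg_eq_zero]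
    refine hF.A_perp_symm ?_
    rw [hκ, H.ev, map_zero, LinearMap.zero_apply, zero_div]
  obtain ⟨E, -, HE⟩ := hO.hel_lt hF huv'
  have H₁ := HE.mul hF H
  set ψ₁ : W →ₗ[F] V := pt (-v') + ψ with hψ₁
  have hev₁ : ∀ x e, hF.ev x (ψ₁ e) = hF.ev x (ψ e) - A v' x • e := fun x e => by
    rw [hψ₁, LinearMap.add_apply, map_add, hF.ev_pt, map_neg, LinearMap.neg_apply, neg_smul]
    abel
  suffices hzero : ∀ x, A u x = 0 → ∀ e, hF.ev x (ψ₁ e) = 0 by
    have := hzero v huv y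
    rwa [hev₁, sub_eq_zero, hκ] at this
  have hskew : ∀ x, A u x = 0 → ∀ e y, pS Q (hF.ev x (ψ₁ e)) y + pS Q (hF.ev x (ψ₁ y)) e = 0 := by
    intro x hx e y
    rw [hsym H₁ x hx]
    have : pS Q (hF.ev x (ψ₁ y₀)) y₀ = 0 := by
      rw [hev₁, map_sub, LinearMap.sub_apply, map_smul, LinearMap.smul_apply, smul_eq_mul, pS_self, hκ,
        div_mul_cancel₀ _ h2y, sub_self]
    rw [this, zero_div, zero_mul]
  by_contra! hne
  obtain ⟨w₀, huw₀, e₀, he₀⟩ := hne
  set S : W →ₗ[F] W := hF.ev w₀ ∘ₗ ψ₁ with hSdef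
  have hS : ∀ e y, pS Q (S e) y + pS Q (S y) e = 0 := fun e y => hskew w₀ huw₀ e y
  let SK : U → (W →ₗ[F] W) → Prop := fun w S => ∃ h ρ, Hel hF X u h (pt w ∘ₗ S) ρ
  have hw₀u := hF.A_perp_symm huw₀
  have hS0 : SK w₀ S := by
    have H₂ := H₁.conj hF (hO.lt_mem hF w₀ 1) (b := 1) (fun y => by
      rw [hF.lt_apply, hF.ev_pt, huw₀, zero_smul, map_zero, smul_zero, add_zero]; rfl) (fun z => by
      rw [hF.lt_apply, map_add, map_smul, hF.ev_pt, hw₀u, zero_smul, smul_zero, add_zero]; rfl)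
    have H₃ := H₂.mul hF (H₁.inv hF)
    have e : pt w₀ ∘ₗ S = (hF.lt w₀ 1).toLinearMap ∘ₗ ψ₁ ∘ₗ (1 : W ≃ₗ[F] W).symm.toLinearMap + -ψ₁ := by
      refine LinearMap.ext fun e => ?_
      show pt w₀ (hF.ev w₀ (ψ₁ e)) = hF.lt w₀ 1 (ψ₁ e) + -ψ₁ e
      rw [hF.lt_apply, one_smul]
      abel
    show ∃ h ρ, Hel hF X u h (pt w₀ ∘ₗ S) ρ
    rw [e]
    exact ⟨_, _, H₃⟩
  have hsub : ∀ w S S', SK w S → SK w S' → SK w (S - S') := by
    rintro w S S' ⟨_, _, H⟩ ⟨_, _, H'⟩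
    show ∃ h ρ, Hel hF X u h (pt w ∘ₗ (S - S')) ρ
    rw [LinearMap.comp_sub, sub_eq_add_neg]
    exact ⟨_, _, H.mul hF (H'.inv hF)⟩
  have hconj : ∀ w S, SK w S → ∀ a : U ≃ₗ[F] U, a ∈ Alt.isoGroup A → a u = u → ∀ b : W ≃ₗ[F] W, b ∈ Quad.oG Q →
      SK (a w) (b.toLinearMap ∘ₗ S ∘ₗ b.symm.toLinearMap) := by
    rintro w S ⟨_, _, H⟩ a ha hau b hb
    obtain ⟨k, hk, -, hkp, hkev⟩ := hO.exists_lift hF ha hb
    have e : pt (a w) ∘ₗ (b.toLinearMap ∘ₗ S ∘ₗ b.symm.toLinearMap) =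
        k.toLinearMap ∘ₗ (pt w ∘ₗ S) ∘ₗ b.symm.toLinearMap := LinearMap.ext fun e => by simp [hkp]
    show ∃ h ρ, Hel hF X u h (pt (a w) ∘ₗ (b.toLinearMap ∘ₗ S ∘ₗ b.symm.toLinearMap)) ρ
    rw [e]
    exact ⟨_, _, H.conj hF hk (b := b) (fun y => by rw [hkp, hau]) (fun z => by
      have := hkev u z
      rwa [hau] at this)⟩
  -- a second position for the first factor
  obtain ⟨w₁, huw₁, hw01⟩ : ∃ w₁, A u w₁ = 0 ∧ A w₀ w₁ = 1 := by
    have hne0 : ¬ (w₀ ∈ F ∙ u) := fun hmem => he₀ (by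
      obtain ⟨t, rfl⟩ := Submodule.mem_span_singleton.1 hmem
      rw [map_smul, LinearMap.smul_apply, hψ₁, LinearMap.add_apply, map_add, H.ev, hF.ev_pt,
        hF.A_perp_symm huv', zero_smul, add_zero, smul_zero])
    obtain ⟨u', hu'⟩ := hF.exists_partner hu
    have hπ : w₀ - A w₀ u' • u ≠ 0 := fun h0 => hne0 (Submodule.mem_span_singleton.2 ⟨_, (sub_eq_zero.1 h0).symm⟩)
    obtain ⟨x, hx⟩ := hF.exists_partner hπ
    refine ⟨x - A u x • u', by rw [map_sub, map_smul, hu', smul_eq_mul, mul_one, sub_self], ?_⟩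
    rw [map_sub, map_smul, smul_eq_mul]
    rw [map_sub, LinearMap.sub_apply, map_smul, LinearMap.smul_apply, smul_eq_mul] at hx
    linear_combination hx
  obtain ⟨a, ha, hau, haw⟩ : ∃ a : U ≃ₗ[F] U, a ∈ Alt.isoGroup A ∧ a u = u ∧ a w₀ = w₁ := by
    refine ⟨Alt.tv hF.Aalt (w₁ - w₀) 1, Alt.tv_mem_isoGroup _ _ _, ?_, ?_⟩
    · rw [Alt.tv_apply, map_sub, huw₁, huw₀, sub_zero, mul_zero, zero_smul, add_zero]
    · rw [Alt.tv_apply, map_sub, hw01, hF.A_self, sub_zero, one_mul, one_smul, add_sub_cancel]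
  have hpair : ∀ S S', SK w₀ S → SK w₁ S' → ∃ μ : F, ∀ e y,
      pS Q (S' e) (S y) + pS Q (S e) (S' y) = μ * pS Q e y := by
    rintro S S' ⟨_, _, H⟩ ⟨_, _, H'⟩
    obtain ⟨μ, hμ⟩ := H.comm hO hF hD hu H'
    refine ⟨-μ, fun e y => ?_⟩
    have h0 := hμ e y
    simp only [LinearMap.comp_apply, hF.prod, hw01, hF.A_swap w₀ w₁] at h0
    linear_combination -h0
  -- an elementary element
  obtain ⟨c, hc, hSc⟩ : ∃ c, Q c ≠ 0 ∧ S c ≠ 0 := by
    by_contra! hall
    refine he₀ ?_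
    show S e₀ = 0
    by_cases hQe : Q e₀ = 0
    swap
    · exact hall e₀ hQe
    obtain ⟨c, hc⟩ := hF.exists_aniso
    by_cases h1 : Q (e₀ + c) = 0
    swap
    · have := hall _ h1
      rwa [map_add, hall c hc, add_zero] at this
    have h2 : Q (e₀ - c) ≠ 0 := fun h2 => hc ((mul_eq_zero.1 (show (2 : F) * Q c = 0 by
      rw [q_add, hQe] at h1
      rw [sub_eq_add_neg, q_add, hQe, QuadraticMap.map_neg, map_neg] at h2
      linear_combination h1 + h2)).resolve_left two)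
    have := hall _ h2
    rwa [map_sub, hall c hc, sub_zero] at this
  set d := S c with hd
  have hcd : pS Q c d = 0 := by
    have := hS c c
    rw [pS_symm]
    exact (mul_eq_zero.1 (show (2 : F) * pS Q d c = 0 by linear_combination this)).resolve_left two
  set γ := (Q c)⁻¹ with hγ
  have hγ0 : γ ≠ 0 := inv_ne_zero hc
  have hγc : γ * Q c = 1 := inv_mul_cancel₀ hc
  set r := Quad.refl hc
  set El := S - r.toLinearMap ∘ₗ S ∘ₗ r.symm.toLinearMap with hEldef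
  have hEl : SK w₀ El := hsub _ _ _ hS0 (hconj _ _ hS0 1 (one_mem _) rfl r (Quad.refl_mem hc))
  have hElx : ∀ x, El x = γ • (pS Q c x • d - pS Q d x • c) := fun x => by
    have hr : r.symm x = x - (pS Q x c / Q c) • c := rfl
    have e1 : pS Q (S x) c = -pS Q x d := by rw [eq_neg_iff_add_eq_zero, pS_symm x d]; exact hS x c
    simp only [hEldef, LinearMap.sub_apply, LinearMap.comp_apply, LinearEquiv.coe_coe, hr, map_sub, map_smul, ← hd]
    rw [Quad.refl_apply, ← pS_apply, Quad.refl_apply, ← pS_apply, e1, pS_symm d c, hcd, hγ, pS_symm c x, pS_symm d x]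
    match_scalars <;> field_simp <;> ring
  have hd0 : d ≠ 0 := hSc
  by_cases hQd : Q d = 0
  · obtain ⟨t₀, ht₀, hdt₀⟩ := Quad.exists_perp hF.Qnd (S := F ∙ c) (x := d) (fun hmem => by
      obtain ⟨τ, hτ⟩ := Submodule.mem_span_singleton.1 hmem
      rw [← hτ, q_smul, mul_eq_zero] at hQd
      exact hd0 (by rw [← hτ, mul_self_eq_zero.1 (hQd.resolve_right hc), zero_smul]))
    have hdt₀' : pS Q d t₀ = 1 := hdt₀
    set t := t₀ + (-Q t₀) • d with htdef
    have hct : pS Q c t = 0 := by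
      rw [htdef, map_add, map_smul, hcd, show pS Q c t₀ = 0 from ht₀ c (Submodule.mem_span_singleton_self c),
        smul_zero, add_zero]
    have hdt : pS Q d t = 1 := by rw [htdef, map_add, map_smul, hdt₀', pS_self, hQd, mul_zero, smul_zero, add_zero]
    have hQt : Q t = 0 := by rw [htdef, q_add, q_smul, hQd, map_smul, pS_symm, hdt₀', smul_eq_mul]; ring
    have ht : t ≠ 0 := fun h0 => by rw [h0, map_zero] at hdt; exact zero_ne_one hdt
    obtain ⟨k, hk, hkc, hkd⟩ := hF.exists_map₂ (hF.indep_of_perp hc hd0 hcd) (hF.indep_of_perp hc ht hct) rfl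
      (hQd.trans hQt.symm) (hcd.trans hct.symm)
    set El' := k.toLinearMap ∘ₗ El ∘ₗ k.symm.toLinearMap with hEl'def
    have hEl' : SK w₁ El' := haw ▸ hconj _ _ hEl a ha hau k hk
    have hEl'x : ∀ x, El' x = γ • (pS Q c x • t - pS Q t x • c) := fun x => by
      obtain ⟨x, rfl⟩ := k.surjective x
      simp only [hEl'def, LinearMap.comp_apply, LinearEquiv.coe_coe, LinearEquiv.symm_apply_apply, hElx, map_smul,
        map_sub, hkc, hkd]
      congr 3
      · conv_rhs => rw [← hkc, pS_apply, Quad.polar_eq_of_mem hk, ← pS_apply]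
      · conv_rhs => rw [← hkd, pS_apply, Quad.polar_eq_of_mem hk, ← pS_apply]
    obtain ⟨μ, hμ⟩ := hpair El El' hEl hEl'
    have htd : pS Q t d = 1 := (pS_symm t d).trans hdt
    have h1 := hμ c c
    have h2 := hμ d t
    simp only [hElx, hEl'x, map_smul, map_sub, LinearMap.smul_apply, LinearMap.sub_apply, smul_eq_mul, pS_self, hcd,
      hct, hdt, htd, hQd, hQt, pS_symm d c, pS_symm t c, mul_zero, zero_mul, mul_one, sub_zero, zero_sub,
      add_zero] at h1 h2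
    rw [show μ = γ * γ * (2 * Q c) by linear_combination -h2] at h1
    refine mul_ne_zero (mul_ne_zero (mul_ne_zero hγ0 hγ0) (mul_ne_zero two hc)) (mul_ne_zero two hc) ?_
    linear_combination h1
  · have hEl' : SK w₁ El := by
      have := hconj _ _ hEl a ha hau 1 (one_mem _)
      rw [haw] at this
      exact this
    obtain ⟨μ, hμ⟩ := hpair El El hEl hEl'
    obtain ⟨z, hz, hz0⟩ : ∃ z ∈ LinearMap.ker (pS Q c) ⊓ LinearMap.ker (pS Q d), z ≠ 0 := by
      refine Submodule.exists_mem_ne_zero_of_ne_bot fun h0 => ?_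
      have e1 := SpTwo.Over.finrank_inf_ker (⊤ : Submodule F W) (pS Q c)
      have e2 := SpTwo.Over.finrank_inf_ker (⊤ ⊓ LinearMap.ker (pS Q c)) (pS Q d)
      rw [top_inf_eq] at e1 e2
      rw [h0, finrank_bot] at e2
      rw [finrank_top] at e1
      have := hF.dimW
      omega
    have hElz : El z = 0 := by
      rw [hElx, show pS Q c z = 0 from hz.1, show pS Q d z = 0 from hz.2, zero_smul, zero_smul, sub_zero, smul_zero]
    have hμ0 : μ = 0 := by
      by_contra hμ0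
      refine hz0 (hF.eq_zero_of_pS fun y => ?_)
      have := hμ z y
      rw [hElz, map_zero, LinearMap.zero_apply, add_zero, eq_comm, mul_eq_zero] at this
      exact this.resolve_left hμ0
    have h1 := hμ c c
    simp only [hμ0, hElx, map_smul, LinearMap.smul_apply, smul_eq_mul, pS_self,
      hcd, pS_symm d c, zero_mul, sub_zero, zero_smul] at h1
    refine mul_ne_zero (mul_ne_zero two (mul_ne_zero (mul_ne_zero hγ0 hγ0) (mul_ne_zero two hQd)))
      (mul_ne_zero (mul_ne_zero two hc) (mul_ne_zero two hc)) ?_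
    linear_combination h1

/-- an element fixing `u ⊗ W` pointwise -/
theorem Over.fix_inN (hD : ¬ Done hF X) {u : U} (hu : u ≠ 0) {g : V ≃ₗ[F] V} (hg : g ∈ X)
    (hfix : ∀ y, g (pt u y) = pt u y) : InN pt g := by
  obtain ⟨u', hu'⟩ := hF.exists_partner hu
  obtain ⟨y₀, hy₀⟩ := hF.exists_aniso
  have h2y : 2 * Q y₀ ≠ 0 := mul_ne_zero hF.two hy₀
  have hevu : ∀ {k : V ≃ₗ[F] V}, k ∈ X → (∀ y, k (pt u y) = pt u y) → ∀ z, hF.ev u (k z) = hF.ev u z :=
    fun {k} hk hkf z => hF.eq_of_pS fun y => by rw [hF.pS_ev, hF.pS_ev, ← hO.iso k hk z (pt u y), hkf]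
  have hfix' : ∀ y, g.symm (pt u y) = pt u y := fun y => g.injective (by rw [g.apply_symm_apply, hfix])
  -- the images of `w ⊗ W` for `w ⊥ u`
  have hHel : ∀ w, A u w = 0 → ∃ h ρ, Hel hF X u h (g.toLinearMap ∘ₗ pt w) ρ := fun w hw => by
    obtain ⟨E, -, HE⟩ := hO.hel_lt hF hw
    have H := HE.conj hF hg (b := 1) (fun y => by rw [hfix]; rfl) (fun z => hevu hg hfix z)
    exact ⟨_, _, H⟩
  let L : U →ₗ[F] U →ₗ[F] F := LinearMap.mk₂ F (fun w x => (2 * Q y₀)⁻¹ * pS Q (hF.ev x (g (pt w y₀))) y₀)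
    (fun w w' x => by simp only [map_add, LinearMap.add_apply]; ring)
    (fun c w x => by simp only [map_smul, LinearMap.smul_apply, smul_eq_mul]; ring)
    (fun w x x' => by simp only [map_add, LinearMap.add_apply]; ring)
    (fun c w x => by simp only [map_smul, LinearMap.smul_apply, smul_eq_mul]; ring)
  let Φ : U →ₗ[F] U := (LinearMap.BilinForm.toDual A hF.And).symm.toLinearMap ∘ₗ L
  have hΦ : ∀ w x, A (Φ w) x = (2 * Q y₀)⁻¹ * pS Q (hF.ev x (g (pt w y₀))) y₀ := fun w x => by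
    rw [show Φ w = (LinearMap.BilinForm.toDual A hF.And).symm (L w) from rfl,
      LinearMap.BilinForm.apply_toDual_symm_apply, LinearMap.mk₂_apply]
  have hpure : ∀ w, A u w = 0 → ∀ v, A u v = 0 → ∀ y, hF.ev v (g (pt w y)) = A (Φ w) v • y := by
    intro w hw v hv y
    obtain ⟨_, _, H⟩ := hHel w hw
    rw [hΦ, ← div_eq_inv_mul]
    exact H.pure hO hF hD hu hy₀ hv y
  have hΦu : ∀ w, A u w = 0 → A u (Φ w) = 0 := fun w hw => by
    refine hF.A_perp_symm ?_
    rw [hΦ, hevu hg hfix, hF.ev_pt, hF.A_perp_symm hw, zero_smul, map_zero, LinearMap.zero_apply, mul_zero]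
  have hΦ0 : ∀ v, A u v = 0 → A (Φ u) v = 0 := fun v hv => by
    rw [hΦ, hfix, hF.ev_pt, hv, zero_smul, map_zero, LinearMap.zero_apply, mul_zero]
  have hΦiso : ∀ w w', A u w = 0 → A u w' = 0 → A (Φ w) (Φ w') = A w w' := by
    intro w w' hw hw'
    have hd : g (pt w' y₀) - pt (Φ w') y₀ ∈ LinearMap.range (pt u) := hF.mem_R hu fun v hv => by
      rw [map_sub, hpure w' hw' v hv, hF.ev_pt, sub_self]
    obtain ⟨p, hp⟩ := hd
    have h1 : B (g (pt w y₀)) (g (pt w' y₀)) = B (g (pt w y₀)) (pt (Φ w') y₀) := by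
      rw [show g (pt w' y₀) = pt (Φ w') y₀ + pt u p by rw [hp, add_sub_cancel], map_add,
        ← hF.pS_ev u, hevu hg hfix, hF.ev_pt, hF.A_perp_symm hw, zero_smul, map_zero, LinearMap.zero_apply, add_zero]
    rw [hO.iso g hg, hF.prod, pS_self, ← hF.pS_ev, hpure w hw _ (hΦu w' hw'), map_smul, LinearMap.smul_apply,
      smul_eq_mul, pS_self] at h1
    exact (mul_right_cancel₀ h2y h1).symm
  -- the isometry of the first factor
  let π : U →ₗ[F] U := LinearMap.id - (A u).smulRight u' - ((A).flip u').smulRight u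
  have hπ : ∀ x, π x = x - A u x • u' - A x u' • u := fun x => rfl
  have hu'u : A u' u = -1 := by rw [hF.A_swap u u', hu']
  have hπu : ∀ x, A u (π x) = 0 := fun x => by
    rw [hπ, map_sub, map_sub, map_smul, map_smul, hu', hF.A_self, smul_eq_mul, smul_eq_mul]; ring
  have hπu' : ∀ x, A u' (π x) = 0 := fun x => by
    rw [hπ, map_sub, map_sub, map_smul, map_smul, hu'u, hF.A_self, smul_eq_mul, smul_eq_mul, hF.A_swap x u']; ring
  have hππ : ∀ z z', A u z = 0 → A u z' = 0 → A (π z) (π z') = A z z' := fun z z' hz hz' => by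
    rw [hπ, hπ, hz, hz', zero_smul, sub_zero, sub_zero]
    simp only [map_sub, map_smul, LinearMap.sub_apply, LinearMap.smul_apply, smul_eq_mul, hz', hF.A_self,
      hF.A_perp_symm hz]
    ring
  let φ : U →ₗ[F] U := (A u).smulRight u' + ((A).flip u').smulRight u + π ∘ₗ Φ ∘ₗ π
  have hφ : ∀ x, φ x = A u x • u' + A x u' • u + π (Φ (π x)) := fun x => rfl
  have hφiso : ∀ x x', A (φ x) (φ x') = A x x' := by
    intro x x'
    have e : A (π (Φ (π x))) (π (Φ (π x'))) = A (π x) (π x') := by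
      rw [hππ _ _ (hΦu _ (hπu x)) (hΦu _ (hπu x')), hΦiso _ _ (hπu x) (hπu x')]
    conv_rhs => rw [show x = A u x • u' + A x u' • u + π x by rw [hπ]; abel,
      show x' = A u x' • u' + A x' u' • u + π x' by rw [hπ]; abel]
    simp only [hφ, map_add, map_smul, LinearMap.add_apply, LinearMap.smul_apply, smul_eq_mul, hF.A_self, hu', hu'u,
      hπu, hπu', hF.A_perp_symm (hπu _), hF.A_perp_symm (hπu' _), e]
  have hinj : Function.Injective φ := (injective_iff_map_eq_zero φ).2 fun x hx => hF.And.1 x fun x' => by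
    rw [← hφiso, hx, map_zero, LinearMap.zero_apply]
  obtain ⟨a, ha⟩ : ∃ a : U ≃ₗ[F] U, ∀ x, a x = φ x := ⟨LinearEquiv.ofInjectiveEndo φ hinj, fun _ => rfl⟩
  have haiso : a ∈ Alt.isoGroup A := fun x x' => by rw [ha, ha, hφiso]
  have hau : a u = u := by
    rw [ha, hφ, hF.A_self, zero_smul, zero_add, hu', one_smul,
      show π u = 0 by rw [hπ, hF.A_self, zero_smul, sub_zero, hu', one_smul, sub_self], map_zero, map_zero, add_zero]
  have haw : ∀ w v, A u w = 0 → A u v = 0 → A (a w) v = A (Φ w) v := fun w v hw hv => by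
    have e1 : π w = w - A w u' • u := by rw [hπ, hw, zero_smul, sub_zero]
    rw [ha, hφ, hw, zero_smul, zero_add, hπ (Φ (π w)), hΦu _ (hπu w), zero_smul, sub_zero, e1, map_sub, map_smul]
    simp only [map_add, map_sub, map_smul, LinearMap.add_apply, LinearMap.sub_apply, LinearMap.smul_apply,
      smul_eq_mul, hv, hΦ0 v hv]
    ring
  obtain ⟨k, hk, hkN, hkp, hkev⟩ := hO.exists_lift hF haiso (b := 1) (one_mem _)
  set g₁ := k⁻¹ * g with hg₁
  have hg₁X : g₁ ∈ X := mul_mem (inv_mem hk) hg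
  have hkg₁ : ∀ z, k (g₁ z) = g z := fun z => by rw [hg₁, LinearEquiv.mul_apply, Alt.apply_inv_self]
  have hfix₁ : ∀ y, g₁ (pt u y) = pt u y := fun y => k.injective (by
    rw [hkg₁, hfix, hkp, hau]; rfl)
  have hw₁ : ∀ w, A u w = 0 → ∀ v, A u v = 0 → ∀ y, hF.ev v (g₁ (pt w y)) = A w v • y := by
    intro w hw v hv y
    have hav : A u (a v) = 0 := by
      conv_lhs => rw [← hau]
      rw [haiso, hv]
    have h1 := hkev v (g₁ (pt w y))
    rw [hkg₁, hpure w hw _ hav, ← haw w _ hw hav, haiso] at h1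
    exact h1.symm
  have htriv : ∀ z, hF.ev u z = 0 → ∀ v, A u v = 0 → hF.ev v (g₁ z) = hF.ev v z := by
    intro z hz v hv
    refine hF.eq_of_pS fun y => ?_
    obtain ⟨p, hp⟩ : g₁ (pt v y) - pt v y ∈ LinearMap.range (pt u) := hF.mem_R hu fun x hx => by
      rw [map_sub, hw₁ v hv x hx, hF.ev_pt, sub_self]
    rw [hF.pS_ev, hF.pS_ev, ← hO.iso g₁ hg₁X z (pt v y), show g₁ (pt v y) = pt v y + pt u p by rw [hp, add_sub_cancel],
      map_add, ← hF.pS_ev u (g₁ z), hevu hg₁X hfix₁, hz, map_zero, LinearMap.zero_apply, add_zero]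
  -- `g₁` is one of the basic elements
  let ψ : W →ₗ[F] V := (g₁.toLinearMap - LinearMap.id) ∘ₗ pt u' ∘ₗ (-LinearMap.id)
  let ρ : V →ₗ[F] W := hF.ev u' ∘ₗ (g₁.toLinearMap - LinearMap.id) ∘ₗ (LinearMap.id + pt u' ∘ₗ hF.ev u)
  have hψ : ∀ e, ψ e = g₁ (pt u' (-e)) - pt u' (-e) := fun e => rfl
  have hρ : ∀ z, ρ z = hF.ev u' (g₁ (z + pt u' (hF.ev u z)) - (z + pt u' (hF.ev u z))) := fun z => rfl
  have H₁ : Hel hF X u g₁ ψ ρ := by
    refine ⟨hg₁X, fun e => ?_, fun y => ?_, fun z => ?_⟩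
    · rw [hψ, map_sub, hevu hg₁X hfix₁, sub_self]
    · rw [hρ, hF.ev_pt, hF.A_self, zero_smul, map_zero, add_zero, hfix₁, sub_self, map_zero]
    · set e := hF.ev u z
      have hz0 : hF.ev u (z + pt u' e) = 0 := by rw [map_add, hF.ev_pt, hu'u, neg_one_smul, add_neg_cancel]
      obtain ⟨p, hp⟩ : g₁ (z + pt u' e) - (z + pt u' e) ∈ LinearMap.range (pt u) := hF.mem_R hu fun v hv => by
        rw [map_sub, htriv _ hz0 v hv, sub_self]
      have hp' : pt u (ρ z) = g₁ (z + pt u' e) - (z + pt u' e) := by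
        rw [hρ, ← hp, hF.ev_pt, hu', one_smul]
      rw [hp', hψ, map_neg, map_neg, map_add]
      abel
  let κ : U →ₗ[F] F := (2 * Q y₀)⁻¹ • ((pS Q).flip y₀ ∘ₗ (hF.ev).flip (ψ y₀))
  set v' := (LinearMap.BilinForm.toDual A hF.And).symm κ with hv'
  have hκ : ∀ x, A v' x = pS Q (hF.ev x (ψ y₀)) y₀ / (2 * Q y₀) := fun x => by
    rw [hv', LinearMap.BilinForm.apply_toDual_symm_apply]
    simp [κ, div_eq_inv_mul]
  have huv' : A u (-v') = 0 := by
    rw [map_neg, neg_eq_zero]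
    refine hF.A_perp_symm ?_
    rw [hκ, H₁.ev, map_zero, LinearMap.zero_apply, zero_div]
  obtain ⟨E, hEN, HE⟩ := hO.hel_lt hF huv'
  have H₂ := HE.mul hF H₁
  set ψ₂ : W →ₗ[F] V := pt (-v') + ψ with hψ₂
  set ρ₂ : V →ₗ[F] W := hF.ev (-v') + ρ + hF.ev (-v') ∘ₗ ψ ∘ₗ hF.ev u
  have hR : ∀ e, ψ₂ e ∈ LinearMap.range (pt u) := fun e => hF.mem_R hu fun v hv => by
    rw [hψ₂, LinearMap.add_apply, map_add, hF.ev_pt, map_neg, LinearMap.neg_apply,
      H₁.pure hO hF hD hu hy₀ hv, hκ, neg_smul, neg_add_cancel]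
  have hψ₂' : ∀ e, ψ₂ e = pt u (hF.ev u' (ψ₂ e)) := fun e => by
    obtain ⟨p, hp⟩ := hR e
    rw [← hp, hF.ev_pt, hu', one_smul]
  have hρ₂ : ∀ z, hF.ev u z = 0 → ρ₂ z = 0 := by
    intro z hz
    refine hF.eq_zero_of_pS fun y => ?_
    have h1 := hO.iso _ H₂.mem z (pt u' y)
    rw [H₂.eq, H₂.eq, hz, map_zero, add_zero, hψ₂' (hF.ev u (pt u' y))] at h1
    have h3 : ∀ p, B z (pt u p) = 0 := fun p => by rw [← hF.pS_ev, hz, map_zero, LinearMap.zero_apply]
    simp only [map_add, LinearMap.add_apply, hF.prod, hF.A_self, hu', h3, zero_mul, one_mul, add_zero] at h1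
    linear_combination h1
  have hrad : E * g₁ = hF.rad u (hF.ev u' ∘ₗ ψ₂ - ρ₂ ∘ₗ pt u') := LinearEquiv.ext fun z => by
    rw [H₂.eq, hF.rad_apply, hψ₂' (hF.ev u z)]
    have h0 := hρ₂ (z + pt u' (hF.ev u z)) (by rw [map_add, hF.ev_pt, hu'u, neg_one_smul, add_neg_cancel])
    rw [map_add, add_eq_zero_iff_eq_neg] at h0
    rw [add_assoc, ← map_add (pt u), h0, LinearMap.sub_apply, LinearMap.comp_apply, LinearMap.comp_apply,
      sub_eq_add_neg]
  have hN₁ : InN pt g₁ := by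
    have := (hF.inN_inv hEN).mul (hrad ▸ hO.rad_inN hF hD hu (hrad ▸ H₂.mem))
    rwa [inv_mul_cancel_left] at this
  have := hkN.mul hN₁
  rwa [hg₁, mul_inv_cancel_left] at this

/-- an element mapping one subspace `u ⊗ W` into itself -/
theorem Over.stab_inN (hD : ¬ Done hF X) {u : U} (hu : u ≠ 0) {g : V ≃ₗ[F] V} (hg : g ∈ X)
    (hR : ∀ y, g (pt u y) ∈ LinearMap.range (pt u)) : InN pt g := by
  obtain ⟨u', hu'⟩ := hF.exists_partner hu
  set T : W →ₗ[F] W := hF.ev u' ∘ₗ g.toLinearMap ∘ₗ pt u with hT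
  have hgT : ∀ y, g (pt u y) = pt u (T y) := fun y => by
    obtain ⟨p, hp⟩ := hR y
    simp only [hT, LinearMap.comp_apply, LinearEquiv.coe_coe, ← hp, hF.ev_pt, hu', one_smul]
  have hTinj : Function.Injective T := fun y y' h => hF.pt_injective hu (g.injective (by rw [hgT, hgT, h]))
  have hadj : ∀ z, hF.ev u (g⁻¹ z) = hF.adj T (hF.ev u z) := fun z => hF.eq_of_pS fun y => by
    rw [hF.pS_adj, hF.pS_ev, hF.pS_ev, ← hgT]
    conv_rhs => rw [← Alt.apply_inv_self g z, hO.iso g hg]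
  have hrad : hF.rad u (T ∘ₗ hF.adj T) = g * hF.lt u 1 * g⁻¹ := LinearEquiv.ext fun z => by
    rw [LinearEquiv.mul_apply, LinearEquiv.mul_apply, hF.lt_apply, one_smul, map_add, Alt.apply_inv_self, hF.rad_apply,
      hgT, hadj]
    rfl
  obtain ⟨μ, hμ⟩ := hO.rad_scalar hF hD hu (hrad ▸ mul_mem (mul_mem hg (hO.lt_mem hF u 1)) (inv_mem hg))
  have hTs : ∀ e, T (hF.adj T e) = μ • e := hμ
  haveI := hF.nontrivialW
  have hμ0 : μ ≠ 0 := fun h0 => by
    obtain ⟨y, hy⟩ := exists_ne (0 : W)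
    refine hy (hTinj ?_)
    rw [map_zero]
    refine hF.eq_zero_of_pS fun e => ?_
    rw [pS_symm, ← hF.pS_adj, hTinj (show T (hF.adj T e) = T 0 by rw [hTs, h0, zero_smul, map_zero]), map_zero,
      LinearMap.zero_apply]
  have hsim : ∀ y y', pS Q (T y) (T y') = μ * pS Q y y' := fun y y' => by
    rw [← hF.pS_adj, show hF.adj T (T y) = μ • y from hTinj (by rw [hTs, map_smul]), map_smul, LinearMap.smul_apply,
      smul_eq_mul]
  obtain ⟨a, hau, ha⟩ := hF.exists_sim hu hμ0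
  let b := (LinearEquiv.ofInjectiveEndo T hTinj).symm
  have hb : ∀ y, T (b y) = y := fun y => (LinearEquiv.ofInjectiveEndo T hTinj).apply_symm_apply y
  obtain ⟨k, hkiso, hkN, hkp, -⟩ := hF.exists_lift (a := a) (b := b) (μ := μ) (ν := μ⁻¹) ha (fun y y' => by
    conv_rhs => rw [← hb y, ← hb y', hsim, ← mul_assoc, inv_mul_cancel₀ hμ0, one_mul]) (mul_inv_cancel₀ hμ0)
  have := hO.fix_inN hF hD hu (g := k * g) (mul_mem (hO.mem k hkiso hkN) hg) (fun y => by
    rw [LinearEquiv.mul_apply, hgT, hkp, hau]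
    congr 1
    exact hTinj (hb (T y)))
  have := (hF.inN_inv hkN).mul this
  rwa [inv_mul_cancel_left] at this

/-- an element mapping one subspace `u ⊗ W` into another -/
theorem Over.maps_inN (hD : ¬ Done hF X) {u v : U} (hu : u ≠ 0) (hv : v ≠ 0) {g : V ≃ₗ[F] V} (hg : g ∈ X)
    (hR : ∀ y, g (pt u y) ∈ LinearMap.range (pt v)) : InN pt g := by
  obtain ⟨a, ha, hav⟩ := hF.exists_isoA hv hu
  obtain ⟨k, hk, hkN, hkp, -⟩ := hO.exists_lift hF ha (b := 1) (one_mem _)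
  have := hO.stab_inN hF hD hu (g := k * g) (mul_mem hk hg) (fun y => by
    obtain ⟨p, hp⟩ := hR y
    exact ⟨p, by rw [LinearEquiv.mul_apply, ← hp, hkp, hav]; rfl⟩)
  have := (hF.inN_inv hkN).mul this
  rwa [inv_mul_cancel_left] at this

end Cfsg.Agent.ClassicalMax.SpTensor
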